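import Cfsg.Agent.Lib.Blocks.DefectBound.Quotient
import Cfsg.Agent.Lib.Blocks.Cyclo.Bounds
import Cfsg.Agent.Lib.Blocks.MajorSubsection
import Cfsg.Agent.Lib.Blocks.InertialHeight

/-!
# The Brauer–Feit bounds `k(B) ≤ p ^ d` for `d ≤ 2` and `k(B) ≤ p ^ (2 d - 2)` for `d ≥ 3`
-/

set_option autoImplicit false

namespace CfsgLib.Blocks.DefectBound

open Cfsg CfsgLib.Char CfsgLib.CharAction CfsgLib.CycloTrace CfsgLib.Blocks.SubForm CfsgLib.Fusion
open scoped ComplexConjugate Classical

universe u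

variable {p : ℕ} [Fact p.Prime] {M : Ideal AlgInt} [M.IsPrime] (hM : IsPModular p M)
include hM

/-- A block of positive defect has a major subsection at an element of order `p`. -/
theorem exists_major_prime {G : Type u} [Group G] [Fintype G] {B : Set (IrrCharacter G)}
    (hB : IsPBlock M B) (hd : 1 ≤ blockDefect p B) :
    ∃ (y : G) (b : Set (IrrCharacter (Subgroup.centralizer ({y} : Set G)))), orderOf y = p ∧
      IsInducedBlock M (Subgroup.centralizer ({y} : Set G)) b B ∧
      blockDefect p b = blockDefect p B := by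
  have hp : p.Prime := Fact.out
  obtain ⟨D, hD⟩ := exists_isDefectGroup (p := p) hB
  have hcard := IsDefectGroup.card_eq hM hB hD
  have hDp := IsDefectGroup.isPGroup hD
  obtain ⟨hDH, hCH, hHN⟩ := le_of_eq_sup (D := D) (H := D ⊔ Subgroup.centralizer (D : Set G)) rfl
  obtain ⟨bH, hbH⟩ := (exists_inducing_iff_subConj hM hDp hDH hCH hHN hB hD).2
    ⟨1, by simp⟩
  have : Nontrivial D := Finite.one_lt_card_iff_nontrivial.1
    (hcard ▸ Nat.one_lt_pow (by omega) hp.one_lt)
  have := hDp.center_nontrivial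
  obtain ⟨k, hk⟩ := (hDp.to_subgroup (Subgroup.center D)).exists_card_eq
  have hk0 : k ≠ 0 := fun h => by
    rw [h, pow_zero] at hk
    exact absurd hk (Finite.one_lt_card (α := Subgroup.center D)).ne'
  obtain ⟨z, hz⟩ := exists_prime_orderOf_dvd_card' (G := Subgroup.center D) p
    (hk ▸ dvd_pow_self p hk0)
  have hc : ∀ u ∈ D, u * ((z : D) : G) = ((z : D) : G) * u := fun u hu =>
    congrArg Subtype.val (Subgroup.mem_center_iff.1 z.2 ⟨u, hu⟩)
  obtain ⟨c, hc1, hc2, -, -⟩ := exists_major hM hD rfl hbH (z : D).2 hc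
  exact ⟨_, c, by rw [Subgroup.orderOf_coe, Subgroup.orderOf_coe, hz], hc1, hc2⟩

omit [Fact p.Prime] [M.IsPrime] hM in
/-- `l(B) ≤ k(B)`. -/
theorem blockRank_le_card {G : Type u} [Group G] [Finite G] (B : Set (IrrCharacter G)) :
    blockRank p B ≤ Nat.card B := by
  have := Fintype.ofFinite (IrrCharacter G)
  unfold blockRank
  refine (finrank_span_le_card _).trans ?_
  rw [Nat.card_eq_card_toFinset, Set.toFinset_image]
  exact Finset.card_image_le

/-- The quotient of the centralizer of an element of order `p`. -/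
theorem exists_quotient {G : Type u} [Group G] [Fintype G] {y : G} (hy : orderOf y = p)
    {b : Set (IrrCharacter (Subgroup.centralizer ({y} : Set G)))} (hb : IsPBlock M b) :
    ∃ (Z : Subgroup (Subgroup.centralizer ({y} : Set G))) (_ : Z.Normal),
      Z ≤ Subgroup.center (Subgroup.centralizer ({y} : Set G)) ∧ Nat.card Z = p ^ 1 := by
  set yC : Subgroup.centralizer ({y} : Set G) := ⟨y, mem_centralizer_singleton.2 (Commute.refl y)⟩
  have hle : Subgroup.zpowers yC ≤ Subgroup.center (Subgroup.centralizer ({y} : Set G)) :=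
    Subgroup.zpowers_le.2 (Subgroup.mem_center_iff.2 fun g =>
      Subtype.ext (mem_centralizer_singleton.1 g.2).eq)
  exact ⟨_, ⟨fun x hx g => by rw [Subgroup.mem_center_iff.1 (hle hx) g]; simpa using hx⟩, hle,
    by rw [Nat.card_zpowers, ← Subgroup.orderOf_coe, hy, pow_one]⟩

/-- Defect two: at most `p ^ 2` characters. -/
theorem card_le_of_defect_two {G : Type u} [Group G] [Fintype G] {B : Set (IrrCharacter G)}
    (hB : IsPBlock M B) (hd : blockDefect p B = 2) : Nat.card B ≤ p ^ 2 := by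
  have := Fintype.ofFinite (IrrCharacter G)
  obtain ⟨y, b, hy, hind, hbd⟩ := exists_major_prime hM hB (by omega)
  have := Fintype.ofFinite (IrrCharacter (Subgroup.centralizer ({y} : Set G)))
  obtain ⟨hb, -, -⟩ := isInducedBlock_iff.1 hind
  obtain ⟨Z, hZn, hZc, hZ⟩ := exists_quotient hM hy hb
  have := Fintype.ofFinite (IrrCharacter (Subgroup.centralizer ({y} : Set G) ⧸ Z))
  have : Fintype (Subgroup.centralizer ({y} : Set G) ⧸ Z) := Fintype.ofFinite _
  have hh : ∀ χ ∈ B, blockHeight p B (χ : G → ℂ) = 0 := fun χ hχ => by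
    rcases height_bound hM hB hχ with h | h <;> omega
  have hhb : ∀ η ∈ b, blockHeight p b (η : Subgroup.centralizer ({y} : Set G) → ℂ) = 0 := fun η hη => by
    rcases height_bound hM hb hη with h | h <;> omega
  have hdq := blockDefect_quotBlock_eq Z hM hb hZc hZ (by omega) hhb
  have hrk := blockRank_quotBlock Z hM hb hZc hZ
  set l := blockRank p b with hl
  have hy' : ∃ k : ℕ, orderOf y = p ^ k := ⟨1, by rw [hy, pow_one]⟩
  obtain ⟨n, ζ, hζ, hyn⟩ := exists_root hM.1 hy'
  have hmin : ∀ v, form (formR p b) v ≠ 0 → (l : ℤ) ≤ form (formR p b) v := by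
    intro v hv
    obtain ⟨u, hu⟩ := form_quotBlock Z hM hb hZc hZ (by omega) v
    rw [hu] at hv ⊢
    rw [hrk]
    exact blockRank_le_form hM (isPBlock_quotBlock Z hM hb hZc hZ) (by omega) u hv
  choose f hf using fun χ (η : IrrCharacter (Subgroup.centralizer ({y} : Set G))) =>
    exists_coeff_vector hM hy' hζ hyn χ η
  set S := (Set.toFinite B).toFinset with hS
  have hpos : ∀ χ ∈ S, 0 < avg ζ (p ^ (n + 1)) (entry p y b χ χ) ∧ (l : ℝ) ≤ avg ζ (p ^ (n + 1)) (entry p y b χ χ) := by
    intro χ hχS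
    have hχ : χ ∈ B := (Set.Finite.mem_toFinset _).1 hχS
    have hne := entry_ne_zero_of_height_zero hM hy' hind hχ hχ (hh χ hχ) (hh χ hχ)
    refine ⟨avg_entry_self_pos hM hy' hind hζ hyn hχ hne, ?_⟩
    rcases avg_form hM.1 hζ (formR p b) (form_nonneg hM hb) (fun v => form_eq_zero hM hb)
      (Int.natCast_nonneg l) hmin (f χ) with h | h
    · refine absurd ?_ hne
      rw [entry_eq hM hb]
      refine Finset.sum_eq_zero fun η _ => ?_
      have h1 := congrArg conj (h η)
      simp only [map_sum, map_mul, map_intCast, map_zero, hf] at h1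
      rw [colU, h1, mul_zero]
    · simp only [hf] at h
      rw [entry_eq hM hb]
      simp only [colU, Finset.mul_sum]
      push_cast at h
      refine h.trans (le_of_eq (congrArg _ (Finset.sum_congr rfl fun η _ =>
        Finset.sum_congr rfl fun η' _ => by ring)))
  have hsum := sum_avg_self hM hy' hind hζ hyn
  rw [hbd, hd] at hsum
  have hk : Nat.card B = S.card := by
    rw [Nat.card_coe_set_eq, Set.ncard_eq_toFinset_card _ (Set.toFinite B)]
  have h1 : ((S.card * l : ℕ) : ℝ) ≤ ((p ^ 2 * l : ℕ) : ℝ) := by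
    push_cast
    rw [← hsum, ← nsmul_eq_mul]
    exact Finset.card_nsmul_le_sum S _ _ fun χ hχ => (hpos χ hχ).2
  have hl0 : 0 < l := by
    obtain ⟨χ, hχ⟩ := IsPBlock.nonempty hB
    by_contra h
    push Not at h
    have h2 := Finset.sum_pos (fun χ hχ => (hpos χ hχ).1) ⟨χ, (Set.Finite.mem_toFinset _).2 hχ⟩
    rw [hsum, ← hl, Nat.le_zero.1 h] at h2
    simp at h2
  rw [hk]
  exact Nat.le_of_mul_le_mul_right (by exact_mod_cast h1) hl0

/-- The exponent in the bound. -/
def bfExp (d : ℕ) : ℕ := if d ≤ 2 then d else 2 * d - 2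

omit hM [Fact p.Prime] [M.IsPrime] in
theorem bfExp_mono {a c : ℕ} (h : a ≤ c) : bfExp a ≤ bfExp c := by
  unfold bfExp
  split_ifs <;> omega

/-- Brauer–Feit. -/
theorem card_le_pow_bfExp : ∀ (d : ℕ) {G : Type u} [Group G] [Fintype G]
    {B : Set (IrrCharacter G)}, IsPBlock M B → blockDefect p B = d →
      Nat.card B ≤ p ^ bfExp d := by
  have hp : p.Prime := Fact.out
  intro d
  induction d using Nat.strong_induction_on with
  | _ d ih =>
  intro G _ _ B hB hd
  rcases Nat.eq_zero_or_pos d with hd0 | hd0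
  · have h := four_mul_card_le hM hB
    rw [hd, hd0] at h
    subst hd0
    simp only [Nat.mul_zero, pow_zero] at h
    change _ ≤ p ^ 0
    rw [pow_zero]
    omega
  by_cases hd2 : d = 2
  · have h := card_le_of_defect_two hM hB (by omega)
    rw [hd2]
    exact h
  by_cases hh : ∀ χ ∈ B, blockHeight p B (χ : G → ℂ) = 0
  · obtain ⟨y, b, hy, hind, hbd⟩ := exists_major_prime hM hB (by omega)
    obtain ⟨hb, -, -⟩ := isInducedBlock_iff.1 hind
    obtain ⟨Z, hZn, hZc, hZ⟩ := exists_quotient hM hy hb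
    have : Fintype (Subgroup.centralizer ({y} : Set G) ⧸ Z) := Fintype.ofFinite _
    have hq := isPBlock_quotBlock Z hM hb hZc hZ
    have hdq := blockDefect_quotBlock_le Z hM hb hZc hZ
    rw [hbd, hd] at hdq
    have h1 := sq_card_le hM ⟨1, by rw [hy, pow_one]⟩ hh hind (hbd.trans hd)
    have h2 : blockRank p b ≤ p ^ bfExp (d - 1) := by
      rw [blockRank_quotBlock Z hM hb hZc hZ]
      refine (blockRank_le_card _).trans ((ih _ (by omega) hq rfl).trans ?_)
      exact Nat.pow_le_pow_right hp.pos (bfExp_mono hdq)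
    have h3 : Nat.card B ^ 2 ≤ p ^ (2 * d + bfExp (d - 1)) := by
      rw [pow_add]
      exact h1.trans (Nat.mul_le_mul_left _ h2)
    have h4 : 2 * d + bfExp (d - 1) ≤ bfExp d * 2 := by
      unfold bfExp
      split_ifs <;> omega
    have h5 := h3.trans (Nat.pow_le_pow_right hp.pos h4)
    rw [pow_mul] at h5
    exact (Nat.pow_le_pow_iff_left two_ne_zero).1 h5
  · push Not at hh
    obtain ⟨χ, hχ, hne⟩ := hh
    have h := two_mul_card_le_of_height_pos hM hB ⟨χ, hχ, Nat.pos_of_ne_zero hne⟩
    rw [hd] at h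
    rcases height_bound hM hB hχ with h0 | h0
    · exact absurd h0 hne
    have h3 : 3 ≤ d := by omega
    simp only [bfExp, if_neg (by omega : ¬ d ≤ 2)]
    omega

end CfsgLib.Blocks.DefectBound
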