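import Cfsg.Agent.Lib.Blocks.DefectBound.Bound
import Cfsg.Agent.Lib.Blocks.QuotientDefect
import Cfsg.Agent.Lib.Blocks.Cyclic.CoreExists
import Cfsg.Agent.Lib.Blocks.Cyclic.LowerBound
import Cfsg.Agent.Lib.Pairs.Correspondence

/-!
# The number of characters of a block with abelian defect group of rank at most three

A major subsection `(y, b)` gives `k(B) m ≤ p ^ d l(b)`, where `m` is the least positive value of the
form of `b`.  When the defect group modulo `y` is cyclic, `m ≥ l(b)`.
-/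

set_option autoImplicit false

namespace CfsgLib.Blocks.AbelianBound

open Cfsg CfsgLib.Char CfsgLib.CharAction CfsgLib.CycloTrace CfsgLib.Blocks.SubForm
  CfsgLib.Blocks.DefectBound
open CfsgLib.Pairs (exists_pairOf_of_isDefectGroup inducedFromCent_iff pairStab)
open scoped ComplexConjugate Classical

/-- The form `q ∑ u² ...` of a block with cyclic defect group, times `e`, is at least `e ^ 2`. -/
theorem sq_card_le_value {ι : Type*} (X : Finset ι) (u : ι → ℤ) (Y q : ℤ)
    (hq : (X.card : ℤ) + 1 ≤ q)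
    (hne : q * ((X.card : ℤ) * ∑ i ∈ X, u i ^ 2 - (∑ i ∈ X, u i) ^ 2) +
      ((X.card : ℤ) * Y - ∑ i ∈ X, u i) ^ 2 ≠ 0) :
    (X.card : ℤ) ^ 2 ≤ q * ((X.card : ℤ) * ∑ i ∈ X, u i ^ 2 - (∑ i ∈ X, u i) ^ 2) +
      ((X.card : ℤ) * Y - ∑ i ∈ X, u i) ^ 2 := by
  set e : ℤ := (X.card : ℤ) with he
  set U := ∑ i ∈ X, u i with hU
  set N := e * ∑ i ∈ X, u i ^ 2 - U ^ 2 with hN
  by_cases hX : ∀ i ∈ X, ∀ j ∈ X, u i = u j
  · rcases X.eq_empty_or_nonempty with h0 | ⟨i₀, hi₀⟩
    · exact absurd (by simp [hN, hU, he, h0]) hne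
    have h1 : U = e * u i₀ := by
      rw [hU, Finset.sum_congr rfl fun i hi => hX i hi i₀ hi₀, Finset.sum_const, nsmul_eq_mul]
    have h2 : ∑ i ∈ X, u i ^ 2 = e * u i₀ ^ 2 := by
      rw [Finset.sum_congr rfl fun i hi => by rw [hX i hi i₀ hi₀], Finset.sum_const, nsmul_eq_mul]
    have h3 : N = 0 := by rw [hN, h1, h2]; ring
    rw [h3] at hne ⊢
    rw [mul_zero, zero_add, h1, ← mul_sub, mul_pow] at hne ⊢
    have hne' : (Y - u i₀) ^ 2 ≠ 0 := fun h => hne (by rw [h, mul_zero])
    have : (1 : ℤ) ≤ (Y - u i₀) ^ 2 := by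
      have := sq_nonneg (Y - u i₀)
      omega
    nlinarith [sq_nonneg e]
  · push Not at hX
    obtain ⟨i₀, hi₀, k, hk, hik⟩ := hX
    set w := fun i => u i - u i₀ with hw
    have hNw : N = e * ∑ i ∈ X, w i ^ 2 - (∑ i ∈ X, w i) ^ 2 := by
      simp only [hw, sub_sq, Finset.sum_sub_distrib, Finset.sum_add_distrib, Finset.sum_const,
        nsmul_eq_mul, ← Finset.sum_mul, ← Finset.mul_sum, hN, ← hU, ← he]
      ring
    set S := X.filter fun i => w i ≠ 0 with hS
    have hsum : ∑ i ∈ X, w i = ∑ i ∈ S, w i :=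
      (Finset.sum_filter_ne_zero X).symm
    have hsq : ∑ i ∈ X, w i ^ 2 = ∑ i ∈ S, w i ^ 2 := by
      rw [hS, Finset.sum_filter]
      refine Finset.sum_congr rfl fun i _ => ?_
      by_cases h : w i = 0 <;> simp [h]
    have hs1 : 1 ≤ S.card := Finset.card_pos.2 ⟨k, Finset.mem_filter.2 ⟨hk, sub_ne_zero.2 (Ne.symm hik)⟩⟩
    have hse : S.card + 1 ≤ X.card := by
      have h1 : S ⊂ X := Finset.filter_ssubset.2 ⟨i₀, hi₀, by simp [hw]⟩
      exact Finset.card_lt_card h1
    have hQ : (S.card : ℤ) ≤ ∑ i ∈ S, w i ^ 2 := by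
      rw [Finset.cast_card]
      refine Finset.sum_le_sum fun i hi => ?_
      have := (Finset.mem_filter.1 hi).2
      have h0 : w i ^ 2 ≠ 0 := pow_ne_zero _ this
      have := sq_nonneg (w i)
      omega
    have hCS := sq_sum_le_card_mul_sum_sq (s := S) (f := w)
    have hN1 : e - 1 ≤ N := by
      rw [hNw, hsum, hsq]
      have h1 : ((e - S.card) * S.card) ≤ (e - S.card) * ∑ i ∈ S, w i ^ 2 :=
        mul_le_mul_of_nonneg_left hQ (by omega)
      have h2 : e - 1 ≤ (e - S.card) * S.card := by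
        have h3 : (0 : ℤ) ≤ ((S.card : ℤ) - 1) * (e - S.card - 1) :=
          mul_nonneg (by omega) (by omega)
        linarith
      linarith
    have hN0 : 0 ≤ N := by omega
    have hqN : (e + 1) * N ≤ q * N := mul_le_mul_of_nonneg_right hq hN0
    rcases eq_or_ne (e * Y - U) 0 with h | h
    · have hdvd : e ∣ N :=
        dvd_sub (dvd_mul_right _ _) (dvd_pow ⟨Y, (sub_eq_zero.1 h).symm⟩ two_ne_zero)
      have : e ≤ N := Int.le_of_dvd (by omega) hdvd
      nlinarith
    · have : (1 : ℤ) ≤ (e * Y - U) ^ 2 := by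
        have h0 : (e * Y - U) ^ 2 ≠ 0 := pow_ne_zero _ h
        have := sq_nonneg (e * Y - U)
        omega
      nlinarith

universe u

variable {p : ℕ} [Fact p.Prime] {M : Ideal AlgInt} [M.IsPrime] (hM : IsPModular p M)
include hM

/-- A block of defect zero has at most one character. -/
theorem card_le_one {G : Type u} [Group G] [Fintype G] {B : Set (IrrCharacter G)}
    (hB : IsPBlock M B) (hd : blockDefect p B = 0) : Nat.card B ≤ 1 := by
  have h := four_mul_card_le hM hB
  rw [hd, mul_zero, pow_zero] at h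
  omega

set_option maxHeartbeats 1000000 in
/-- For a cyclic defect group the form is at least the rank at a vector outside its kernel. -/
theorem blockRank_le_form_cyclic {G : Type u} [Group G] [Fintype G] [Fintype (IrrCharacter G)]
    {B : Set (IrrCharacter G)} (hB : IsPBlock M B) {P : Subgroup G}
    (hD : IsDefectGroup p M B P) (hcyc : IsCyclic P) (v : IrrCharacter G → ℤ)
    (hv : form (formR p B) v ≠ 0) : (blockRank p B : ℤ) ≤ form (formR p B) v := by
  by_cases hP1 : P = ⊥
  · have hd : blockDefect p B = 0 := by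
      have h := IsDefectGroup.card_eq hM hB hD
      rw [hP1, Subgroup.card_bot] at h
      rcases Nat.eq_zero_or_pos (blockDefect p B) with h0 | h0
      · exact h0
      · exact absurd h.symm (Nat.one_lt_pow h0.ne' (Fact.out : p.Prime).one_lt).ne'
    have h1 : blockRank p B ≤ 1 := (blockRank_le_card B).trans (card_le_one hM hB hd)
    have := form_nonneg hM hB v
    omega
  obtain ⟨c, hc⟩ := exists_pairOf_of_isDefectGroup hM hB hD
  have hPC : P ≤ Subgroup.centralizer (P : Set G) := fun x hx =>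
    Subgroup.mem_centralizer_iff.2 fun y hy => by
      let := IsCyclic.commGroup (α := P)
      exact congrArg Subtype.val (mul_comm (⟨y, hy⟩ : P) ⟨x, hx⟩)
  have hS : Cyclic.Setup p M B P c := ⟨hM, hB, hD, hP1, hcyc,
    (inducedFromCent_iff hM (IsDefectGroup.isPGroup hD) hPC hc.1.2 B).2 hc⟩
  obtain ⟨Z, f, L⟩ := hS.exists_local
  obtain ⟨a, ha⟩ := IsPGroup.iff_card.1 (IsDefectGroup.isPGroup hD)
  obtain ⟨χ₀, hχ₀, hfix, hfree⟩ := L.exists_fixed'
  obtain ⟨n, ρ, hn, hρ, hinj, hsum⟩ := L.exists_reps hχ₀ hfix hfree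
  obtain ⟨cc, K, -⟩ := L.core_of_reps ha hχ₀ hfix hfree ρ hn hρ hinj hsum
  set e := (Subgroup.centralizer (P : Set G)).relIndex (pairStab P c)
  obtain ⟨θ, δ, δ₀, hθ, hθB, hδ₀, hδ, hcard, hrank, hcθ, hcX⟩ :=
    K.exists_structure hM hB hS.le_blockRank
  set cj := fun j => cc (ρ j) with hcj
  set Bf := Finset.univ.filter (fun χ : IrrCharacter G => χ ∈ B) with hBf
  set S := fun χ : IrrCharacter G => ∑ j, cj j χ with hSdef
  set q : ℤ := (p : ℤ) ^ a with hq
  -- the entries
  have hR : ∀ η ξ, formR p B η ξ = if η ∈ B ∧ ξ ∈ B then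
      q * ((if η = ξ then 1 else 0) - ∑ j, cj j η * cj j ξ) + (e : ℤ) * S η * S ξ else 0 := by
    intro η ξ
    by_cases h : η ∈ B ∧ ξ ∈ B
    swap
    · rw [formR, if_neg h, if_neg h]
    rw [if_pos h]
    apply Int.cast_injective (α := ℂ)
    rw [formR_eq hM hB h.1 h.2, K.defect]
    have hfun : regCut p (η : G → ℂ) = (η : G → ℂ) -
        ∑ j, ((cj j η : ℂ) - (e : ℂ) / (p : ℂ) ^ a * ∑ i, (cj i η : ℂ)) • Cyclic.gam (cj j) :=
      funext fun g => by
        simp only [Pi.sub_apply, Finset.sum_apply, Pi.smul_apply, smul_eq_mul]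
        rw [← K.sing_eq h.1 g]
        ring
    rw [hfun, classInner_sub_left, classInner_irr, classInner_sum_left]
    simp only [classInner_smul_left, Cyclic.classInner_gam, sub_mul, Finset.sum_sub_distrib, mul_assoc,
      ← Finset.mul_sum, hSdef, hq]
    have hd : (if η = ξ then (1 : ℂ) else 0) = ((if η = ξ then (1 : ℤ) else 0 : ℤ) : ℂ) := by
      split_ifs <;> simp
    have hpa : (p : ℂ) ^ a ≠ 0 := pow_ne_zero _ (Nat.cast_ne_zero.2 hM.1.ne_zero)
    rw [hd]
    push_cast
    field_simp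
    ring
  set T := fun j => ∑ η ∈ Bf, cj j η * v η with hT
  have hform : form (formR p B) v =
      q * (∑ η ∈ Bf, v η ^ 2 - ∑ j, T j ^ 2) + (e : ℤ) * (∑ j, T j) ^ 2 := by
    have h1 : form (formR p B) v = ∑ η ∈ Bf, ∑ ξ ∈ Bf,
        (q * ((if η = ξ then 1 else 0) - ∑ j, cj j η * cj j ξ) + (e : ℤ) * S η * S ξ) * (v η * v ξ) := by
      rw [form, Finset.sum_filter]
      refine Finset.sum_congr rfl fun η _ => ?_
      split_ifs with hη
      · rw [Finset.sum_filter]
        refine Finset.sum_congr rfl fun ξ _ => ?_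
        rw [hR]
        split_ifs with h1 h2 <;> simp_all
      · exact Finset.sum_eq_zero fun ξ _ => by rw [hR, if_neg fun h => hη h.1, zero_mul]
    have hS' : ∑ j, T j = ∑ η ∈ Bf, S η * v η := by
      simp only [hT, hSdef, Finset.sum_mul]
      exact Finset.sum_comm
    have hT' : ∑ j, T j ^ 2 = ∑ η ∈ Bf, ∑ ξ ∈ Bf, (∑ j, cj j η * cj j ξ) * (v η * v ξ) := by
      simp only [hT, sq]
      simp only [Finset.sum_mul_sum]
      simp only [Finset.sum_mul]
      rw [Finset.sum_comm]
      refine Finset.sum_congr rfl fun η _ => ?_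
      rw [Finset.sum_comm]
      exact Finset.sum_congr rfl fun ξ _ => Finset.sum_congr rfl fun j _ => by ring
    have hdiag : ∑ η ∈ Bf, v η ^ 2 =
        ∑ η ∈ Bf, ∑ ξ ∈ Bf, (if η = ξ then (1 : ℤ) else 0) * (v η * v ξ) :=
      Finset.sum_congr rfl fun η hη => by simp [ite_mul, hη, sq]
    rw [h1, hS', hT', hdiag, sq, Finset.sum_mul_sum]
    simp only [← Finset.sum_sub_distrib]
    simp only [Finset.mul_sum (s := Bf), ← Finset.sum_add_distrib]
    refine Finset.sum_congr rfl fun η _ => Finset.sum_congr rfl fun ξ _ => ?_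
    ring
  -- the two kinds of members
  set Θ := (Finset.univ : Finset (Fin n)).image θ with hΘ
  have hΘB : Θ ⊆ Bf := fun χ hχ => by
    obtain ⟨j, -, rfl⟩ := Finset.mem_image.1 hχ
    exact Finset.mem_filter.2 ⟨Finset.mem_univ _, hθB j⟩
  set X := Bf \ Θ with hX
  have hXc : X.card = e := by
    rw [hX, Finset.card_sdiff_of_subset hΘB, hΘ, Finset.card_image_of_injective _ hθ,
      Finset.card_univ, Fintype.card_fin, hBf, ← Fintype.card_subtype, ← Nat.card_eq_fintype_card]
    have : Nat.card {χ // χ ∈ B} = e + n := hcard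
    omega
  have hsplit : ∀ F : IrrCharacter G → ℤ, ∑ η ∈ Bf, F η = ∑ η ∈ X, F η + ∑ j, F (θ j) := fun F => by
    rw [← Finset.sum_sdiff hΘB, ← hX, hΘ, Finset.sum_image fun _ _ _ _ h => hθ h]
  set u := fun χ => δ χ * v χ with hu
  set U := ∑ η ∈ X, u η with hU
  set y := fun j => δ₀ * v (θ j) with hy
  have hTj : ∀ j, T j = y j + U := by
    intro j
    rw [hT]
    dsimp only
    rw [hsplit, add_comm]
    congr 1
    · simp only [hcj, hcθ, ite_mul, zero_mul, Finset.sum_ite_eq, Finset.mem_univ, if_true, hy]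
    · refine Finset.sum_congr rfl fun η hη => ?_
      obtain ⟨hη1, hη2⟩ := Finset.mem_sdiff.1 hη
      rw [hcj, hu]
      dsimp only
      rw [hcX η (Finset.mem_filter.1 hη1).2 (fun i hi => hη2 (Finset.mem_image.2 ⟨i, Finset.mem_univ _, hi⟩)) j]
  have hv2 : ∑ η ∈ Bf, v η ^ 2 = ∑ η ∈ X, u η ^ 2 + ∑ j, y j ^ 2 := by
    rw [hsplit]
    congr 1 <;> refine Finset.sum_congr rfl fun η _ => ?_
    · rcases hδ η with h | h <;> simp [hu, h]
    · rcases hδ₀ with h | h <;> simp [hy, h]
  set Y := ∑ j, y j with hY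
  have hqe : q = (e : ℤ) * n + 1 := by
    rw [hq, ← Nat.cast_pow, ← K.eq_pow]; push_cast; ring
  have hmain : (e : ℤ) * form (formR p B) v =
      q * ((e : ℤ) * ∑ η ∈ X, u η ^ 2 - U ^ 2) + ((e : ℤ) * Y - U) ^ 2 := by
    have hT2 : ∑ j, T j ^ 2 = ∑ j, y j ^ 2 + 2 * U * Y + (n : ℤ) * U ^ 2 := by
      simp only [hTj, hY]
      rw [Finset.mul_sum, Finset.sum_congr rfl (g := fun j => y j ^ 2 + 2 * U * y j + U ^ 2)
        fun j _ => by ring]
      simp [Finset.sum_add_distrib]
    have hT1 : ∑ j, T j = Y + (n : ℤ) * U := by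
      simp only [hTj, hY, Finset.sum_add_distrib, Finset.sum_const, Finset.card_univ,
        Fintype.card_fin, nsmul_eq_mul]
    rw [hform, hv2, hT1, hT2, hqe]
    ring
  have he1 : 0 < (e : ℤ) := by exact_mod_cast K.e_pos
  have hne : (e : ℤ) * form (formR p B) v ≠ 0 := mul_ne_zero he1.ne' hv
  rw [hmain] at hne
  have h := sq_card_le_value X u Y q
    (by
      rw [hXc, hqe]
      have := K.t_pos
      nlinarith)
    (by rw [hXc]; exact hne)
  rw [hXc, ← hmain, sq] at h
  rw [hrank]
  exact le_of_mul_le_mul_left h he1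

/-- `k(B) m ≤ p ^ d l(b)` for a major subsection with least form value `m`. -/
theorem card_mul_le {G : Type u} [Group G] [Fintype G] {B : Set (IrrCharacter G)} {y : G}
    (hy : ∃ k : ℕ, orderOf y = p ^ k)
    {b : Set (IrrCharacter (Subgroup.centralizer ({y} : Set G)))}
    [Fintype (IrrCharacter (Subgroup.centralizer ({y} : Set G)))]
    (hind : IsInducedBlock M (Subgroup.centralizer ({y} : Set G)) b B)
    (hd : blockDefect p b = blockDefect p B) {m : ℕ}
    (hmin : ∀ v, form (formR p b) v ≠ 0 → (m : ℤ) ≤ form (formR p b) v) :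
    Nat.card B * m ≤ p ^ blockDefect p B * blockRank p b := by
  have := Fintype.ofFinite (IrrCharacter G)
  obtain ⟨hb, -, -⟩ := isInducedBlock_iff.1 hind
  obtain ⟨n, ζ, hζ, hyn⟩ := exists_root hM.1 hy
  choose f hf using fun χ (η : IrrCharacter (Subgroup.centralizer ({y} : Set G))) =>
    exists_coeff_vector hM hy hζ hyn χ η
  set S := (Set.toFinite B).toFinset with hS
  have hpos : ∀ χ ∈ S, (m : ℝ) ≤ avg ζ (p ^ (n + 1)) (entry p y b χ χ) := by
    intro χ hχS
    have hχ : χ ∈ B := (Set.Finite.mem_toFinset _).1 hχS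
    have hne : entry p y b χ χ ≠ 0 :=
      mul_ne_zero (pow_ne_zero _ (Nat.cast_ne_zero.2 hM.1.ne_zero))
        (contribution_self_ne_zero hM hy hind hχ hd)
    rcases avg_form hM.1 hζ (formR p b) (form_nonneg hM hb) (fun v => form_eq_zero hM hb)
      (Int.natCast_nonneg m) hmin (f χ) with h | h
    · refine absurd ?_ hne
      rw [entry_eq hM hb]
      refine Finset.sum_eq_zero fun η _ => ?_
      have h1 := congrArg conj (h η)
      simp only [map_sum, map_mul, map_intCast, map_zero, hf] at h1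
      rw [colU, h1, mul_zero]
    · simp only [hf] at h
      rw [entry_eq hM hb]
      simp only [colU, Finset.mul_sum]
      push_cast at h
      refine h.trans (le_of_eq (congrArg _ (Finset.sum_congr rfl fun η _ =>
        Finset.sum_congr rfl fun η' _ => by ring)))
  have hsum := sum_avg_self hM hy hind hζ hyn
  rw [hd] at hsum
  have h1 : ((S.card * m : ℕ) : ℝ) ≤ ((p ^ blockDefect p B * blockRank p b : ℕ) : ℝ) := by
    push_cast
    rw [← hsum, ← nsmul_eq_mul]
    exact Finset.card_nsmul_le_sum S _ _ hpos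
  rw [Nat.card_coe_set_eq, Set.ncard_eq_toFinset_card _ (Set.toFinite B), ← hS]
  exact_mod_cast h1

set_option maxHeartbeats 1000000 in
/-- A member of an abelian defect group gives a major subsection, with the quotient by it. -/
theorem exists_major_quotient {G : Type u} [Group G] [Fintype G] {B : Set (IrrCharacter G)}
    (hB : IsPBlock M B) {D : Subgroup G} (hD : IsDefectGroup p M B D)
    (hab : ∀ s ∈ D, ∀ t ∈ D, s * t = t * s) {y : G} (hyD : y ∈ D) :
    ∃ (b : Set (IrrCharacter (Subgroup.centralizer ({y} : Set G))))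
      (Z : Subgroup (Subgroup.centralizer ({y} : Set G))) (_ : Z.Normal)
      (b' : Set (IrrCharacter (Subgroup.centralizer ({y} : Set G) ⧸ Z)))
      (D' : Subgroup (Subgroup.centralizer ({y} : Set G) ⧸ Z))
      (π : D →* D') (a : ℕ),
      IsInducedBlock M (Subgroup.centralizer ({y} : Set G)) b B ∧
      blockDefect p b = blockDefect p B ∧ orderOf y = p ^ a ∧
      IsPBlock M b' ∧ blockRank p b = blockRank p b' ∧ IsDefectGroup p M b' D' ∧
      blockDefect p B = blockDefect p b' + a ∧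
      Function.Surjective π ∧ π ⟨y, hyD⟩ = 1 ∧
      ∀ [Fintype (IrrCharacter (Subgroup.centralizer ({y} : Set G)))]
        [Fintype (IrrCharacter (Subgroup.centralizer ({y} : Set G) ⧸ Z))]
        [Fintype (Subgroup.centralizer ({y} : Set G) ⧸ Z)]
        (v : IrrCharacter (Subgroup.centralizer ({y} : Set G)) → ℤ),
        ∃ u, form (formR p b) v = form (formR p b') u := by
  have hp : p.Prime := Fact.out
  have hDp := IsDefectGroup.isPGroup hD
  set C := Subgroup.centralizer ({y} : Set G) with hC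
  obtain ⟨hDH, hCH, hHN⟩ := le_of_eq_sup (D := D) (H := D ⊔ Subgroup.centralizer (D : Set G)) rfl
  obtain ⟨bH, hbH⟩ := (exists_inducing_iff_subConj hM hDp hDH hCH hHN hB hD).2 ⟨1, by simp⟩
  obtain ⟨b, hind, hbd, -, hbD⟩ := exists_major hM hD rfl hbH hyD fun u hu => hab u hu y hyD
  obtain ⟨hb, -, -⟩ := isInducedBlock_iff.1 hind
  obtain ⟨a, ha⟩ := IsPGroup.iff_orderOf.1 hDp ⟨y, hyD⟩
  rw [Subgroup.orderOf_mk] at ha
  set yC : C := ⟨y, mem_centralizer_singleton.2 (Commute.refl y)⟩ with hyC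
  set Z := Subgroup.zpowers yC with hZdef
  have hZc : Z ≤ Subgroup.center C :=
    Subgroup.zpowers_le.2 (Subgroup.mem_center_iff.2 fun g =>
      Subtype.ext (mem_centralizer_singleton.1 g.2).eq)
  have hZn : Z.Normal := ⟨fun x hx g => by
    rw [Subgroup.mem_center_iff.1 (hZc hx) g]; simpa using hx⟩
  have hZ : Nat.card Z = p ^ a := by
    rw [hZdef, Nat.card_zpowers, ← Subgroup.orderOf_coe, hyC, ha]
  have : Fintype (C ⧸ Z) := Fintype.ofFinite _
  set P := D.subgroupOf C with hP
  have hDC : D ≤ C := fun s hs => mem_centralizer_singleton.2 (hab s hs y hyD)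
  have hZP : Z ≤ P := Subgroup.zpowers_le.2 hyD
  obtain ⟨bq, χ, Dq, hbq, hχ, hχb, hDq, hsub⟩ :=
    exists_quotient_block Z hM (IsPGroup.of_card hZ) hb hbD
  have hbq' : bq = quotBlock Z b :=
    IsPBlock.eq_of_mem hbq (isPBlock_quotBlock Z hM hb hZc hZ) hχ hχb
  subst hbq'
  obtain ⟨x, hx⟩ := hsub
  let φ : P →* C ⧸ Z :=
    (MulAut.conj x).toMonoidHom.comp ((QuotientGroup.mk' Z).comp P.subtype)
  have hφ : φ.range ≤ Dq := by
    rintro _ ⟨s, rfl⟩
    exact hx _ (Subgroup.mem_map_of_mem _ s.2)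
  have hker : φ.ker = Z.subgroupOf P := by
    ext s
    rw [MonoidHom.mem_ker, Subgroup.mem_subgroupOf]
    show MulAut.conj x (QuotientGroup.mk (s : C)) = 1 ↔ _
    rw [map_eq_one_iff _ (MulEquiv.injective _), QuotientGroup.eq_one_iff]
  have hcard : Nat.card φ.range * p ^ a = p ^ blockDefect p B := by
    rw [← Subgroup.index_ker φ, hker, ← hZ,
      ← Nat.card_congr (Subgroup.subgroupOfEquivOfLe hZP).toEquiv, Subgroup.index_mul_card,
      IsDefectGroup.card_eq hM hb hbD, hbd]
  obtain ⟨r, hr⟩ := IsPGroup.iff_card.1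
    ((IsDefectGroup.isPGroup hbD).of_surjective φ.rangeRestrict φ.rangeRestrict_surjective)
  have hra : r + a = blockDefect p B :=
    Nat.pow_right_injective hp.two_le (by show p ^ (r + a) = _; rw [pow_add, ← hr, hcard])
  have hle := blockDefect_quotBlock_le Z hM hb hZc hZ
  have hdq := IsDefectGroup.card_eq hM hbq hDq
  have hge : r ≤ blockDefect p (quotBlock Z b) := by
    have h := Subgroup.card_le_of_le hφ
    rw [hr, hdq] at h
    exact (Nat.pow_le_pow_iff_right hp.one_lt).1 h
  have heq : φ.range = Dq := Subgroup.eq_of_le_of_card_ge hφ (by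
    rw [hr, hdq]; exact Nat.pow_le_pow_right hp.pos (by omega))
  subst heq
  refine ⟨b, Z, hZn, quotBlock Z b, φ.range,
    φ.rangeRestrict.comp (Subgroup.subgroupOfEquivOfLe hDC).symm.toMonoidHom, a, hind, hbd, ha, hbq,
    blockRank_quotBlock Z hM hb hZc hZ, hDq, by omega, ?_, ?_, ?_⟩
  · exact φ.rangeRestrict_surjective.comp (Subgroup.subgroupOfEquivOfLe hDC).symm.surjective
  · refine Subtype.ext ?_
    show MulAut.conj x (QuotientGroup.mk yC) = 1
    rw [(QuotientGroup.eq_one_iff yC).2 (Subgroup.mem_zpowers yC), map_one]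
  · intro _ _ _ v
    exact form_quotBlock Z hM hb hZc hZ (by omega) v

omit hM [Fact p.Prime] [M.IsPrime] in
theorem closure_image_two {G H : Type*} [Group G] [Group H] {D : Subgroup G} {D' : Subgroup H}
    (π : D →* D') (hπ : Function.Surjective π) {r s : D}
    (h : Subgroup.closure ({r, s} : Set D) = ⊤) :
    Subgroup.closure ({π r, π s} : Set D') = ⊤ := by
  rw [← Set.image_pair, ← MonoidHom.map_closure, h, Subgroup.map_top_of_surjective π hπ]

/-- **An abelian defect group generated by two elements**: `k(B) ≤ p ^ d`. -/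
theorem card_le_of_two {G : Type u} [Group G] [Fintype G] {B : Set (IrrCharacter G)}
    (hB : IsPBlock M B) {D : Subgroup G} (hD : IsDefectGroup p M B D)
    (hab : ∀ s ∈ D, ∀ t ∈ D, s * t = t * s) {r s : D}
    (h : Subgroup.closure ({r, s} : Set D) = ⊤) : Nat.card B ≤ p ^ blockDefect p B := by
  obtain ⟨b, Z, hZn, b', D', π, a, hind, hbd, hord, hb', hrk, hD', hdef, hπ, hπ1, hform⟩ :=
    exists_major_quotient hM hB hD hab s.2
  have := Fintype.ofFinite (IrrCharacter (Subgroup.centralizer ({(s : G)} : Set G)))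
  have := Fintype.ofFinite (IrrCharacter (Subgroup.centralizer ({(s : G)} : Set G) ⧸ Z))
  have : Fintype (Subgroup.centralizer ({(s : G)} : Set G) ⧸ Z) := Fintype.ofFinite _
  have hcl := closure_image_two π hπ h
  rw [show π s = 1 from hπ1, Set.pair_comm, Subgroup.closure_insert_one] at hcl
  have hcyc : IsCyclic D' := isCyclic_iff_exists_zpowers_eq_top.2
    ⟨π r, by rw [Subgroup.zpowers_eq_closure, hcl]⟩
  have hmin : ∀ v, form (formR p b) v ≠ 0 → (blockRank p b : ℤ) ≤ form (formR p b) v := fun v hv => by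
    obtain ⟨u, hu⟩ := hform v
    rw [hu] at hv ⊢
    rw [hrk]
    exact blockRank_le_form_cyclic hM hb' hD' hcyc u hv
  have hk := card_mul_le hM ⟨a, hord⟩ hind hbd hmin
  have hl : 0 < blockRank p b := by
    rcases Nat.eq_zero_or_pos (blockRank p b) with h0 | h0
    · have hk1 := card_mul_le hM ⟨a, hord⟩ hind hbd (m := 1) fun v hv => by
        have := form_nonneg hM (isInducedBlock_iff.1 hind).1 v
        omega
      rw [h0, mul_zero, mul_one, Nat.le_zero, Nat.card_eq_zero] at hk1
      obtain ⟨χ, hχ⟩ := IsPBlock.nonempty hB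
      rcases hk1 with h1 | h1
      · exact (h1.false ⟨χ, hχ⟩).elim
      · exact absurd h1 (not_infinite_iff_finite.2 inferInstance)
    · exact h0
  exact Nat.le_of_mul_le_mul_right hk hl

/-- **An abelian defect group generated by three elements**, one of order `p ^ a`:
`k(B) p ^ a ≤ p ^ (2 d)`. -/
theorem card_mul_le_of_three {G : Type u} [Group G] [Fintype G] {B : Set (IrrCharacter G)}
    (hB : IsPBlock M B) {D : Subgroup G} (hD : IsDefectGroup p M B D)
    (hab : ∀ s ∈ D, ∀ t ∈ D, s * t = t * s) {y r s : D}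
    (h : Subgroup.closure ({y, r, s} : Set D) = ⊤) :
    Nat.card B * orderOf y ≤ p ^ (2 * blockDefect p B) := by
  obtain ⟨b, Z, hZn, b', D', π, a, hind, hbd, hord, hb', hrk, hD', hdef, hπ, hπ1, hform⟩ :=
    exists_major_quotient hM hB hD hab y.2
  have := Fintype.ofFinite (IrrCharacter (Subgroup.centralizer ({(y : G)} : Set G)))
  have : Fintype (Subgroup.centralizer ({(y : G)} : Set G) ⧸ Z) := Fintype.ofFinite _
  have hab' : ∀ u ∈ D', ∀ w ∈ D', u * w = w * u := fun u hu w hw => by
    obtain ⟨u', hu'⟩ := hπ ⟨u, hu⟩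
    obtain ⟨w', hw'⟩ := hπ ⟨w, hw⟩
    have h1 := congrArg π (show u' * w' = w' * u' from Subtype.ext (hab _ u'.2 _ w'.2))
    rw [map_mul, map_mul, hu', hw'] at h1
    exact congrArg Subtype.val h1
  have hcl : Subgroup.closure ({π r, π s} : Set D') = ⊤ := by
    have h1 : Subgroup.closure (π '' ({y, r, s} : Set D)) = ⊤ := by
      rw [← MonoidHom.map_closure, h, Subgroup.map_top_of_surjective π hπ]
    rw [Set.image_insert_eq, Set.image_pair, show π y = 1 from hπ1, Subgroup.closure_insert_one] at h1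
    exact h1
  have hl : blockRank p b ≤ p ^ blockDefect p b' := by
    rw [hrk]
    exact (blockRank_le_card b').trans (card_le_of_two hM hb' hD' hab' hcl)
  have hk := card_mul_le hM ⟨a, hord⟩ hind hbd (m := 1) fun v hv => by
    have := form_nonneg hM (isInducedBlock_iff.1 hind).1 v
    omega
  rw [mul_one] at hk
  calc Nat.card B * orderOf y ≤ p ^ blockDefect p B * p ^ blockDefect p b' * p ^ a := by
        rw [← Subgroup.orderOf_coe, hord]
        exact Nat.mul_le_mul_right _ (hk.trans (Nat.mul_le_mul_left _ hl))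
    _ = _ := by rw [← pow_add, ← pow_add]; congr 1; omega

end CfsgLib.Blocks.AbelianBound
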