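import Cfsg.Agent.Lib.Blocks.DefectBound.FormBound
import Cfsg.Agent.Lib.Blocks.Cyclo.Form
import Cfsg.Agent.Lib.CharAction.Rank
import Cfsg.Agent.Lib.CharAction.BrauerFeit

/-!
# The least value of the form of a block of defect one

For a block `b` of defect one the scaled inner product on `p`-regular elements takes no nonzero
value below `blockRank p b` on integral combinations of the members of `b`.
-/

set_option autoImplicit false

namespace CfsgLib.Blocks.DefectBound

open Cfsg CfsgLib.Char CfsgLib.CharAction CfsgLib.CycloTrace CfsgLib.Blocks.SubForm Matrix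
open scoped ComplexConjugate Classical

variable {C : Type*} [Group C] [Fintype C] {p : ℕ} [Fact p.Prime] {M : Ideal AlgInt} [M.IsPrime]
  (hM : IsPModular p M) {b : Set (IrrCharacter C)} (hb : IsPBlock M b)
include hM hb

theorem exists_residue (η : IrrCharacter C) {ξ₀ : IrrCharacter C} (hξ₀ : ξ₀ ∈ b) :
    ∃ U : Res M, ∀ ξ ∈ b, ∃ n : ℕ, charDegree (ξ : C → ℂ) = p ^ minExp p b * n ∧
      (η ∈ b → (formR p b η ξ : Res M) = U * n) := by
  obtain ⟨u₀, u', hu₀, hu', huu⟩ := exists_quotient_congr hM η (IsPBlock.sameBlock hb hξ₀ hξ₀)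
  refine ⟨resHom M u₀, fun ξ hξ => ?_⟩
  obtain ⟨n, hn⟩ := exists_degree_eq_minExp_mul (p := p) hξ
  refine ⟨n, hn, fun hη => ?_⟩
  obtain ⟨u, v, hu, hv, huv⟩ := exists_quotient_congr hM η (IsPBlock.sameBlock hb hξ hξ₀)
  have hres : resHom M u = resHom M u₀ := by
    rw [show u₀ = v from Subtype.ext (mul_right_cancel₀ (IsIrr.apply_one_ne_zero ξ₀.2)
      (hu₀.symm.trans hv))]
    exact huv
  obtain ⟨k, hk, hk'⟩ := exists_scaled hM hb hη ξ
  have hRk : formR p b η ξ = k := by
    rw [formR, if_pos ⟨hη, hξ⟩, hk', Complex.intCast_re, Int.floor_intCast]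
  have e : ((k : localRing M) : ℂ) = ((u * (n : localRing M) : localRing M) : ℂ) := by
    have h1 := hu
    rw [apply_one_eq_charDegree, hn, hk] at h1
    push_cast at h1 ⊢
    refine mul_left_cancel₀ (pow_ne_zero (minExp p b)
      (Nat.cast_ne_zero.2 hM.1.ne_zero : (p : ℂ) ≠ 0)) ?_
    linear_combination h1
  have e' := congrArg (resHom M) (Subtype.ext e)
  rw [map_intCast, map_mul, map_natCast, hres] at e'
  rw [hRk, e']

omit hM hb in
/-- The matrix of the form on the members of the block. -/
noncomputable def blockMat (p : ℕ) (b : Set (IrrCharacter C)) : Matrix b b ℤ :=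
  Matrix.of fun η ξ => formR p b (η : IrrCharacter C) (ξ : IrrCharacter C)

theorem blockMat_transpose : (blockMat p b)ᵀ = blockMat p b :=
  Matrix.ext fun η ξ => formR_comm hM hb _ _

theorem blockMat_minor [Fintype b] (i j k l : b) :
    (p : ℤ) ∣ blockMat p b i j * blockMat p b k l - blockMat p b i l * blockMat p b k j := by
  have := charP_residueField hM
  rw [← CharP.intCast_eq_zero_iff (Res M) p]
  obtain ⟨U, hU⟩ := exists_residue hM hb (i : IrrCharacter C) j.2
  obtain ⟨U', hU'⟩ := exists_residue hM hb (k : IrrCharacter C) j.2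
  obtain ⟨n, hn, h1⟩ := hU j j.2
  obtain ⟨n', hn', h2⟩ := hU l l.2
  obtain ⟨m, hm, h3⟩ := hU' l l.2
  obtain ⟨m', hm', h4⟩ := hU' j j.2
  have hpe : 0 < p ^ minExp p b := pow_pos hM.1.pos _
  have e1 : m = n' := Nat.eq_of_mul_eq_mul_left hpe (hm.symm.trans hn')
  have e2 : m' = n := Nat.eq_of_mul_eq_mul_left hpe (hm'.symm.trans hn)
  show ((formR p b (i : IrrCharacter C) j * formR p b (k : IrrCharacter C) l -
    formR p b (i : IrrCharacter C) l * formR p b (k : IrrCharacter C) j : ℤ) : Res M) = 0
  push_cast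
  rw [h1 i.2, h2 i.2, h3 k.2, h4 k.2, e1, e2]
  ring

theorem blockMat_diag (hd : blockDefect p b ≤ 1) (η : b) : ¬ (p : ℤ) ∣ blockMat p b η η := by
  intro hdvd
  have h0 : blockHeight p b ((η : IrrCharacter C) : C → ℂ) = 0 := by
    rcases height_bound hM hb η.2 with h | h <;> omega
  obtain ⟨k, hk, hk'⟩ := exists_scaled hM hb η.2 (η : IrrCharacter C)
  have hRk : blockMat p b η η = k := by
    show formR p b (η : IrrCharacter C) η = k
    rw [formR, if_pos ⟨η.2, η.2⟩, hk', Complex.intCast_re, Int.floor_intCast]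
  have hdeg : (charDegree ((η : IrrCharacter C) : C → ℂ)).factorization p = minExp p b := by
    have h2 := minExp_le (p := p) η.2
    have h3 : blockHeight p b ((η : IrrCharacter C) : C → ℂ) =
        (charDegree ((η : IrrCharacter C) : C → ℂ)).factorization p - minExp p b := rfl
    omega
  refine (not_pow_succ_dvd_regNum_iff hM hb η.2 η.2).2 h0 ?_
  rw [hk, show degVal p ((η : IrrCharacter C) : C → ℂ) = minExp p b from hdeg, pow_succ]
  exact mul_dvd_mul_left _ (hRk ▸ hdvd)

theorem blockMat_sq [Fintype b] :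
    blockMat p b * blockMat p b = ((p : ℤ) ^ blockDefect p b) • blockMat p b := by
  have := Fintype.ofFinite (IrrCharacter C)
  ext η ξ
  apply Int.cast_injective (α := ℂ)
  simp only [Matrix.mul_apply, Matrix.smul_apply, smul_eq_mul, blockMat, Matrix.of_apply]
  push_cast
  rw [Finset.sum_congr rfl fun ζ _ => congrArg₂ (· * ·) (formR_eq hM hb η.2 ζ.2)
    (formR_eq hM hb ζ.2 ξ.2), formR_eq hM hb η.2 ξ.2]
  have hreg := congrArg (fun f : C → ℂ => classInner f ((ξ : IrrCharacter C) : C → ℂ))
    (regCut_eq_sum hM hb η.2)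
  rw [classInner_sum_left] at hreg
  conv_rhs => rw [hreg]
  rw [Finset.mul_sum, Finset.mul_sum]
  rw [← Finset.sum_subtype (Set.toFinite b).toFinset (fun x => Set.Finite.mem_toFinset _)
    (fun ζ : IrrCharacter C => (p : ℂ) ^ blockDefect p b *
      classInner (regCut p ((η : IrrCharacter C) : C → ℂ)) (ζ : C → ℂ) *
      ((p : ℂ) ^ blockDefect p b * classInner (regCut p (ζ : C → ℂ)) ((ξ : IrrCharacter C) : C → ℂ)))]
  refine Finset.sum_congr rfl fun ζ _ => ?_
  rw [classInner_smul_left]
  ring

theorem trace_blockMat [Fintype b] :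
    (blockMat p b).trace = (p : ℤ) ^ blockDefect p b * blockRank p b := by
  apply Int.cast_injective (α := ℂ)
  simp only [Matrix.trace, Matrix.diag, blockMat, Matrix.of_apply]
  push_cast
  rw [blockRank_eq_sum hM hb, Finset.mul_sum, Finset.sum_congr rfl fun η _ => formR_eq hM hb η.2 η.2,
    ← Finset.sum_subtype (Set.toFinite b).toFinset (fun x => Set.Finite.mem_toFinset _)
    (fun η : IrrCharacter C => (p : ℂ) ^ blockDefect p b *
      classInner (regCut p (η : C → ℂ)) (η : C → ℂ))]

theorem form_eq_dotProduct [Fintype b] [Fintype (IrrCharacter C)] (v : IrrCharacter C → ℤ) :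
    form (formR p b) v = (fun η : b => v η) ⬝ᵥ blockMat p b *ᵥ (fun η : b => v η) := by
  simp only [form, dotProduct, Matrix.mulVec, blockMat, Matrix.of_apply, Finset.mul_sum]
  rw [← Finset.sum_subset (Finset.subset_univ (Set.toFinite b).toFinset) fun η _ hη =>
      Finset.sum_eq_zero fun ξ _ => by
        rw [formR, if_neg fun h => hη ((Set.Finite.mem_toFinset _).2 h.1), zero_mul],
    Finset.sum_subtype (Set.toFinite b).toFinset (fun x => Set.Finite.mem_toFinset _)]
  refine Finset.sum_congr rfl fun η _ => ?_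
  rw [← Finset.sum_subset (Finset.subset_univ (Set.toFinite b).toFinset) fun ξ _ hξ => by
        rw [formR, if_neg fun h => hξ ((Set.Finite.mem_toFinset _).2 h.2), zero_mul],
    Finset.sum_subtype (Set.toFinite b).toFinset (fun x => Set.Finite.mem_toFinset _)]
  exact Finset.sum_congr rfl fun ξ _ => by ring

/-- The nonzero values of the form of a block of defect one are at least its rank. -/
theorem blockRank_le_form [Fintype (IrrCharacter C)] (hd : blockDefect p b = 1)
    (v : IrrCharacter C → ℤ) (hv : form (formR p b) v ≠ 0) :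
    (blockRank p b : ℤ) ≤ form (formR p b) v := by
  have : Fintype b := Fintype.ofFinite _
  rw [form_eq_dotProduct hM hb] at hv ⊢
  have h := trace_le_form hM.1 (blockMat p b) (blockMat_transpose hM hb)
    (by rw [blockMat_sq hM hb, hd, pow_one]) (blockMat_minor hM hb)
    (blockMat_diag hM hb hd.le) _ hv
  rw [trace_blockMat hM hb, hd, pow_one] at h
  exact le_of_mul_le_mul_left h (Int.natCast_pos.2 hM.1.pos)

end CfsgLib.Blocks.DefectBound
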