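import Mathlib

/-!
# Integral idempotent forms of rank one modulo `p`

If `R` is an integral symmetric matrix with `R * R = p • R` which has rank one modulo `p` and no
diagonal entry divisible by `p`, then the nonzero values of `v ↦ vᵀ R v` are at least the rank of
`R`, that is `trace R / p`.
-/

set_option autoImplicit false

namespace CfsgLib.Blocks.DefectBound

open Matrix

variable {ι κ : Type*}

section Gram

variable [Fintype κ]

/-- The Gram matrix of a set of rows. -/
def gramOn (B : Matrix ι κ ℤ) (S : Finset ι) : Matrix κ κ ℤ := fun a b => ∑ i ∈ S, B i a * B i b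

/-- Only the zero vector is orthogonal to the rows in `S`. -/
def InjOn' (B : Matrix ι κ ℤ) (S : Finset ι) : Prop :=
  ∀ x : κ → ℤ, (∀ i ∈ S, B i ⬝ᵥ x = 0) → x = 0

variable [DecidableEq κ]

theorem InjOn'.posDef {B : Matrix ι κ ℤ} {S : Finset ι} (h : InjOn' B S) :
    ((gramOn B S).map (Int.cast : ℤ → ℝ)).PosDef := by
  classical
  have hrw : (gramOn B S).map (Int.cast : ℤ → ℝ) =
      (Matrix.of fun (i : S) a => (B i a : ℝ))ᴴ * (Matrix.of fun (i : S) a => (B i a : ℝ)) := by
    ext a b
    simp only [gramOn, Matrix.map_apply, Matrix.mul_apply, Matrix.conjTranspose_apply, Matrix.of_apply,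
      star_trivial, Int.cast_sum, Int.cast_mul]
    exact (Finset.sum_coe_sort S fun i => (B i a : ℝ) * (B i b : ℝ)).symm
  have hpsd : ((gramOn B S).map (Int.cast : ℤ → ℝ)).PosSemidef := hrw ▸ Matrix.posSemidef_conjTranspose_mul_self _
  rw [hpsd.posDef_iff_isUnit, Matrix.isUnit_iff_isUnit_det, isUnit_iff_ne_zero]
  intro h0
  have h1 : ((gramOn B S).det : ℝ) = 0 := by
    rw [← h0]
    exact RingHom.map_det (Int.castRingHom ℝ) (gramOn B S)
  obtain ⟨x, hx0, hx⟩ := Matrix.exists_mulVec_eq_zero_iff.2 (Int.cast_eq_zero.1 h1)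
  refine hx0 (h x ?_)
  have h2 : ∑ i ∈ S, (B i ⬝ᵥ x) ^ 2 = x ⬝ᵥ gramOn B S *ᵥ x := by
    simp only [dotProduct, Matrix.mulVec, gramOn, Finset.mul_sum, Finset.sum_mul, sq]
    rw [Finset.sum_comm]
    refine Finset.sum_congr rfl fun a _ => ?_
    rw [Finset.sum_comm]
    exact Finset.sum_congr rfl fun b _ => Finset.sum_congr rfl fun i _ => by ring
  rw [hx, dotProduct_zero, Finset.sum_eq_zero_iff_of_nonneg fun i _ => sq_nonneg _] at h2
  exact fun i hi => pow_eq_zero_iff two_ne_zero |>.1 (h2 i hi)

theorem InjOn'.det_pos {B : Matrix ι κ ℤ} {S : Finset ι} (h : InjOn' B S) :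
    0 < (gramOn B S).det := by
  have h1 := h.posDef.det_pos
  rw [show ((gramOn B S).map (Int.cast : ℤ → ℝ)).det = ((gramOn B S).det : ℝ) from
    (RingHom.map_det (Int.castRingHom ℝ) (gramOn B S)).symm] at h1
  exact_mod_cast h1

omit [DecidableEq κ] in
theorem InjOn'.mono {B : Matrix ι κ ℤ} {S T : Finset ι} (h : InjOn' B S) (hST : S ⊆ T) :
    InjOn' B T := fun x hx => h x fun i hi => hx i (hST hi)

variable [DecidableEq ι]

/-- A further nonzero row increases the determinant. -/
theorem InjOn'.det_insert {B : Matrix ι κ ℤ} {S : Finset ι} (h : InjOn' B S) {j : ι} (hj : j ∉ S)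
    (hrow : B j ≠ 0) : (gramOn B S).det + 1 ≤ (gramOn B (insert j S)).det := by
  set A := (gramOn B S).map (Int.cast : ℤ → ℝ) with hA
  set u : κ → ℝ := fun a => (B j a : ℝ) with hu
  have heq : (gramOn B (insert j S)).map (Int.cast : ℤ → ℝ) =
      A + Matrix.replicateCol Unit u * Matrix.replicateRow Unit u := by
    ext a b
    simp [hA, hu, gramOn, Finset.sum_insert hj, Matrix.mul_apply]
    ring
  have hdetA : 0 < A.det := h.posDef.det_pos
  have hu0 : u ≠ 0 := fun e => hrow (funext fun a => by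
    have := congrFun e a
    simpa [hu] using this)
  have hpos : 0 < u ⬝ᵥ A⁻¹ *ᵥ u := by
    simpa using h.posDef.inv.dotProduct_mulVec_pos hu0
  have hlt : (gramOn B S).det < (gramOn B (insert j S)).det := by
    have h1 : ((gramOn B (insert j S)).det : ℝ) = A.det * (1 + u ⬝ᵥ A⁻¹ *ᵥ u) := by
      rw [show ((gramOn B (insert j S)).det : ℝ) = ((gramOn B (insert j S)).map (Int.cast : ℤ → ℝ)).det from
        RingHom.map_det (Int.castRingHom ℝ) _, heq,
        Matrix.det_add_replicateCol_mul_replicateRow hdetA.ne'.isUnit]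
      congr 1
      rw [Matrix.det_unique]
      simp [Matrix.mul_apply, dotProduct, Matrix.mulVec, Finset.sum_mul, Finset.mul_sum]
      rw [Finset.sum_comm]
      exact Finset.sum_congr rfl fun _ _ => Finset.sum_congr rfl fun _ _ => by ring
    have h2 : ((gramOn B S).det : ℝ) = A.det := RingHom.map_det (Int.castRingHom ℝ) _
    have : ((gramOn B S).det : ℝ) < (gramOn B (insert j S)).det := by
      rw [h1, h2, mul_add, mul_one]
      exact lt_add_of_pos_right _ (mul_pos hdetA hpos)
    exact_mod_cast this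
  omega

/-- A Gram determinant counts the rows beyond a basis. -/
theorem card_le_det_gram [Fintype ι] (B : Matrix ι κ ℤ) (hinj : InjOn' B Finset.univ)
    (hrows : ∀ i, B i ≠ 0) :
    (Fintype.card ι : ℤ) + 1 ≤ (gramOn B Finset.univ).det + Fintype.card κ := by
  classical
  obtain ⟨S, hS, hmin⟩ := (Finset.univ.filter fun S : Finset ι => InjOn' B S).exists_min_image
    Finset.card ⟨Finset.univ, by simp [hinj]⟩
  have hS' : InjOn' B S := (Finset.mem_filter.1 hS).2
  have hcard : S.card ≤ Fintype.card κ := by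
    have hx : ∀ i : S, ∃ x : κ → ℤ, B i ⬝ᵥ x ≠ 0 ∧ ∀ j ∈ S, j ≠ (i : ι) → B j ⬝ᵥ x = 0 := by
      intro i
      by_contra hcon
      push Not at hcon
      have herase : InjOn' B (S.erase i) := by
        intro x hx
        refine hS' x fun j hj => ?_
        by_cases hji : j = i
        · subst hji
          by_contra hne
          obtain ⟨k, hk, hki, hne'⟩ := hcon x hne
          exact hne' (hx k (Finset.mem_erase.2 ⟨hki, hk⟩))
        · exact hx j (Finset.mem_erase.2 ⟨hji, hj⟩)
      have h1 := hmin _ (Finset.mem_filter.2 ⟨Finset.mem_univ _, herase⟩)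
      exact absurd h1 (not_le.2 (Finset.card_erase_lt_of_mem i.2))
    choose x hx0 hx using hx
    have hli : LinearIndependent ℤ x := by
      rw [Fintype.linearIndependent_iff]
      intro a ha i
      have h1 := congrArg (fun z => B i ⬝ᵥ z) ha
      simp only [dotProduct_sum, dotProduct_smul, dotProduct_zero, smul_eq_mul] at h1
      rw [Finset.sum_eq_single i (fun j _ hj => by
        rw [hx j i i.2 (fun e => hj (Subtype.ext e).symm), mul_zero])
        (fun hi => absurd (Finset.mem_univ _) hi)] at h1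
      exact (mul_eq_zero.1 h1).resolve_right (hx0 i)
    have := hli.fintype_card_le_finrank
    rwa [Module.finrank_fintype_fun_eq_card, Fintype.card_coe] at this
  have key : ∀ T : Finset ι, Disjoint S T →
      (gramOn B S).det + T.card ≤ (gramOn B (S ∪ T)).det := by
    intro T
    induction T using Finset.induction with
    | empty => simp
    | @insert j T hj ih =>
      intro hd
      rw [Finset.disjoint_insert_right] at hd
      have h1 := ih hd.2
      have h2 := (hS'.mono (Finset.subset_union_left : S ⊆ S ∪ T)).det_insert (j := j)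
        (by simp [hd.1, hj]) (hrows j)
      rw [Finset.card_insert_of_notMem hj, Finset.union_insert]
      push_cast
      linarith
  have h1 := key (Finset.univ \ S) Finset.disjoint_sdiff
  rw [Finset.union_sdiff_of_subset (Finset.subset_univ S),
    Finset.card_sdiff_of_subset (Finset.subset_univ S), Finset.card_univ] at h1
  have h2 := hS'.det_pos
  have h3 : S.card ≤ Fintype.card ι := Finset.card_le_univ S
  omega

end Gram

/-- A matrix of rank one modulo `p` has determinant divisible by `p ^ (r - 1)`. -/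
theorem pow_dvd_det [Fintype κ] [DecidableEq κ] (p : ℤ) (A : Matrix κ κ ℤ) (u w : κ → ℤ) :
    p ^ (Fintype.card κ - 1) ∣ (p • A + Matrix.vecMulVec u w).det := by
  classical
  have h : p • A + Matrix.vecMulVec u w =
      p • A - Matrix.replicateCol Unit u * Matrix.replicateRow Unit (-w) := by
    ext a b
    simp [Matrix.mul_apply, Matrix.vecMulVec]
  rw [h, ← Matrix.det_fromBlocks_one₂₂, Matrix.det_apply']
  refine Finset.dvd_sum fun σ _ => Dvd.dvd.mul_left ?_ _
  rw [Fintype.prod_sum_type]
  refine Dvd.dvd.mul_right ?_ _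
  set T := Finset.univ.filter fun a : κ => (σ (Sum.inl a)).isLeft
  have hT : Fintype.card κ - 1 ≤ T.card := by
    have hc : (Finset.univ.filter fun a : κ => ¬ (σ (Sum.inl a)).isLeft).card ≤ 1 := by
      refine Finset.card_le_one.2 fun a ha b hb => ?_
      simp only [Finset.mem_filter, Finset.mem_univ, true_and, Bool.not_eq_true,
        Sum.isLeft_eq_false] at ha hb
      obtain ⟨x, hx⟩ := Sum.isRight_iff.1 ha
      obtain ⟨y, hy⟩ := Sum.isRight_iff.1 hb
      exact Sum.inl_injective (σ.injective (hx.trans (by rw [hy])))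
    have h2 := Finset.card_filter_add_card_filter_not (s := (Finset.univ : Finset κ))
      (fun a => (σ (Sum.inl a)).isLeft)
    rw [Finset.card_univ] at h2
    simp only [T]
    omega
  refine (pow_dvd_pow p hT).trans ?_
  rw [← Finset.prod_const]
  refine dvd_trans ?_ (Finset.prod_dvd_prod_of_subset T Finset.univ _ (Finset.subset_univ _))
  refine Finset.prod_dvd_prod_of_dvd _ _ fun a ha => ?_
  obtain ⟨b, hb⟩ := Sum.isLeft_iff.1 (Finset.mem_filter.1 ha).2
  rw [hb, Matrix.fromBlocks_apply₁₁, Matrix.smul_apply, smul_eq_mul]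
  exact dvd_mul_right _ _

section Form

variable [Fintype ι] [DecidableEq ι]

omit [DecidableEq ι] in
/-- An integral basis of the kernel with an integral retraction. -/
theorem exists_kernel_basis (R : Matrix ι ι ℤ) :
    ∃ (r : ℕ) (c : Matrix ι (Fin r) ℤ) (S : Matrix (Fin r) ι ℤ),
      R * c = 0 ∧ S * c = 1 ∧ ∀ v : ι → ℤ, R *ᵥ v = 0 → c *ᵥ (S *ᵥ v) = v := by
  classical
  set f := R.mulVecLin
  let b := Module.finBasis ℤ (LinearMap.range f)
  choose s hs using fun i => (b i).2
  let σ : LinearMap.range f →ₗ[ℤ] (ι → ℤ) := b.constr ℤ s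
  have hσ : ∀ y : LinearMap.range f, f (σ y) = y := by
    intro y
    have h : f.comp σ = (LinearMap.range f).subtype := b.ext fun i => by
      simp only [LinearMap.comp_apply, σ, Module.Basis.constr_basis]
      exact hs i
    exact LinearMap.congr_fun h y
  let π : (ι → ℤ) →ₗ[ℤ] LinearMap.ker f :=
    (LinearMap.id - σ.comp f.rangeRestrict).codRestrict _ fun v => by
      simp [hσ]
  have hπ : ∀ v : LinearMap.ker f, π v = v := fun v => by
    have h0 : f.rangeRestrict (v : ι → ℤ) = 0 := Subtype.ext v.2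
    refine Subtype.ext ?_
    show (v : ι → ℤ) - σ (f.rangeRestrict v) = v
    rw [h0, map_zero, sub_zero]
  let b' := Module.finBasis ℤ (LinearMap.ker f)
  let c : Matrix ι (Fin (Module.finrank ℤ (LinearMap.ker f))) ℤ := fun i a => (b' a : ι → ℤ) i
  let L := b'.equivFun.toLinearMap.comp π
  refine ⟨_, c, LinearMap.toMatrix' L, ?_, ?_, ?_⟩
  · ext i a
    exact congrFun (LinearMap.mem_ker.1 (b' a).2) i
  · have hL : ∀ a, L (b' a : ι → ℤ) = fun a' => if a' = a then 1 else 0 := fun a => by
      funext a'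
      show b'.equivFun (π (b' a)) a' = _
      rw [hπ, Module.Basis.equivFun_self]
      simp [eq_comm]
    ext a' a
    have h1 := congrFun (hL a) a'
    rw [← LinearMap.toMatrix'_mulVec] at h1
    rw [Matrix.one_apply]
    exact h1
  · intro v hv
    rw [LinearMap.toMatrix'_mulVec]
    have h1 : π v = ⟨v, hv⟩ := hπ ⟨v, hv⟩
    have h2 := b'.sum_equivFun ⟨v, hv⟩
    funext i
    have h3 := congrFun (congrArg Subtype.val h2) i
    simp only [Submodule.coe_sum, Submodule.coe_smul, Finset.sum_apply, Pi.smul_apply,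
      smul_eq_mul] at h3
    show ∑ a, c i a * (b'.equivFun (π v)) a = v i
    rw [h1]
    exact (Finset.sum_congr rfl fun a _ => mul_comm _ _).trans h3

/-- The nonzero values of a form of rank one modulo `p` are at least `trace R / p`. -/
theorem trace_le_form {p : ℕ} (hp : p.Prime) (R : Matrix ι ι ℤ) (hsymm : Rᵀ = R)
    (hsq : R * R = (p : ℤ) • R)
    (hmin : ∀ i j k l, (p : ℤ) ∣ R i j * R k l - R i l * R k j)
    (hdiag : ∀ i, ¬ (p : ℤ) ∣ R i i) (v : ι → ℤ) (hv : v ⬝ᵥ R *ᵥ v ≠ 0) :
    R.trace ≤ (p : ℤ) * (v ⬝ᵥ R *ᵥ v) := by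
  classical
  obtain ⟨r, c, S, hRc, hSc, hker⟩ := exists_kernel_basis R
  have hP : (0 : ℤ) < p := Int.natCast_pos.2 hp.pos
  set N : Matrix ι ι ℤ := (p : ℤ) • 1 - R with hN
  have hRN : R * N = 0 := by rw [hN, mul_sub, mul_smul_comm, mul_one, hsq, sub_self]
  have hNT : Nᵀ = N := by rw [hN, Matrix.transpose_sub, Matrix.transpose_smul, Matrix.transpose_one, hsymm]
  have hcSN : c * (S * N) = N := by
    ext i k
    have h1 : R *ᵥ (fun j => N j k) = 0 := funext fun i' => congrFun (congrFun hRN i') k
    exact congrFun (hker _ h1) i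
  set H : Matrix (Fin r) (Fin r) ℤ := S * N * Sᵀ with hH
  set Gm : Matrix (Fin r) (Fin r) ℤ := cᵀ * c with hGm
  have hcHc : c * H * cᵀ = N := by
    rw [hH, ← Matrix.mul_assoc c, hcSN, Matrix.mul_assoc, ← Matrix.transpose_mul]
    conv_lhs => rw [← hNT, ← Matrix.transpose_mul, Matrix.mul_assoc, hcSN]
    exact hNT
  have hHG : H * Gm = (p : ℤ) • 1 := by
    have h1 : N * c = (p : ℤ) • c := by rw [hN, Matrix.sub_mul, hRc, sub_zero, Matrix.smul_mul, Matrix.one_mul]
    have h2 : S * (N * c) = (p : ℤ) • 1 := by rw [h1, Matrix.mul_smul, hSc]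
    rw [← h2, ← hcHc, hGm]
    simp only [← Matrix.mul_assoc, hSc, Matrix.one_mul]
  -- the trace
  have htr : R.trace = (p : ℤ) * (Fintype.card ι - r) := by
    have h1 : N.trace = (p : ℤ) * r := by
      rw [← hcHc, Matrix.trace_mul_cycle, Matrix.trace_mul_comm, ← hGm, hHG, Matrix.trace_smul,
        Matrix.trace_one, Fintype.card_fin, smul_eq_mul]
    rw [hN, Matrix.trace_sub, Matrix.trace_smul, Matrix.trace_one, smul_eq_mul] at h1
    linarith
  set q := v ⬝ᵥ R *ᵥ v with hq
  have hq0 : 0 ≤ q := by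
    have h1 : (R *ᵥ v) ⬝ᵥ (R *ᵥ v) = (p : ℤ) * q := by
      rw [Matrix.dotProduct_mulVec, ← Matrix.mulVec_transpose, hsymm, Matrix.mulVec_mulVec, hsq,
        Matrix.smul_mulVec, smul_dotProduct, smul_eq_mul, dotProduct_comm, hq]
    have h2 : 0 ≤ (R *ᵥ v) ⬝ᵥ (R *ᵥ v) := Finset.sum_nonneg fun i _ => mul_self_nonneg _
    rw [h1] at h2
    exact nonneg_of_mul_nonneg_right h2 hP
  -- the bordered matrix
  set w : Fin r → ℤ := cᵀ *ᵥ v with hw
  let B : Matrix ι (Fin r ⊕ Unit) ℤ := fun i => Sum.elim (c i) fun _ => v i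
  have hwcol : ∀ a, ∑ i, c i a * v i = w a := fun a => rfl
  have hgram : gramOn B Finset.univ = Matrix.fromBlocks Gm (Matrix.replicateCol Unit w)
      (Matrix.replicateRow Unit w) (Matrix.of fun _ _ => v ⬝ᵥ v) := by
    ext a b
    rcases a with a | a <;> rcases b with b | b <;>
      simp only [gramOn, B, Gm, Sum.elim_inl, Sum.elim_inr, Matrix.fromBlocks_apply₁₁,
        Matrix.fromBlocks_apply₁₂, Matrix.fromBlocks_apply₂₁, Matrix.fromBlocks_apply₂₂,
        Matrix.replicateCol_apply, Matrix.replicateRow_apply, Matrix.of_apply, ← hwcol]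
    · rfl
    · exact Finset.sum_congr rfl fun i _ => mul_comm _ _
    · rfl
  have hinj : InjOn' B Finset.univ := by
    intro x hx
    let x' : Fin r → ℤ := fun a => x (Sum.inl a)
    set t := x (Sum.inr ())
    have hx' : ∀ i, (c *ᵥ x') i + v i * t = 0 := fun i => by
      have := hx i (Finset.mem_univ _)
      simp only [dotProduct, Fintype.sum_sum_type, B, Sum.elim_inl, Sum.elim_inr,
        Finset.univ_unique, Finset.sum_singleton] at this
      exact this
    have hzero : c *ᵥ x' + t • v = 0 := funext fun i => by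
      rw [Pi.add_apply, Pi.smul_apply, smul_eq_mul, mul_comm t]; exact hx' i
    have h1 : t • (R *ᵥ v) = 0 := by
      have := congrArg (R *ᵥ ·) hzero
      simp only [Matrix.mulVec_add, Matrix.mulVec_mulVec, hRc, Matrix.mulVec_smul,
        Matrix.mulVec_zero, Matrix.zero_mulVec, zero_add] at this
      exact this
    have ht : t = 0 := by
      have h2 : t * q = 0 := by
        have := congrArg (v ⬝ᵥ ·) h1
        simp only [dotProduct_smul, dotProduct_zero, smul_eq_mul] at this
        exact this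
      exact (mul_eq_zero.1 h2).resolve_right hv
    rw [ht, zero_smul, add_zero] at hzero
    have hx'0 : x' = 0 := by
      have := congrArg (S *ᵥ ·) hzero
      simpa [Matrix.mulVec_mulVec, hSc] using this
    funext z
    rcases z with z | z
    · exact congrFun hx'0 z
    · exact ht
  have hrows : ∀ i, B i ≠ 0 := by
    intro i hi
    have hci : ∀ a, c i a = 0 := fun a => congrFun hi (Sum.inl a)
    have : N i i = 0 := by
      rw [← hcHc]
      simp [Matrix.mul_apply, hci]
    refine hdiag i ⟨1, ?_⟩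
    rw [hN, Matrix.sub_apply, Matrix.smul_apply, Matrix.one_apply_eq, smul_eq_mul] at this
    linarith
  have hlow := card_le_det_gram B hinj hrows
  rw [Fintype.card_sum, Fintype.card_fin, Fintype.card_unit] at hlow
  set dM := (gramOn B Finset.univ).det
  -- the determinant of the bordered matrix
  have hprod : H.det * Gm.det = (p : ℤ) ^ r := by
    rw [← Matrix.det_mul, hHG, Matrix.det_smul, Matrix.det_one, mul_one, Fintype.card_fin]
  have hdM : (p : ℤ) * dM = Gm.det * q := by
    let Lm : Matrix (Fin r ⊕ Unit) (Fin r ⊕ Unit) ℤ :=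
      Matrix.fromBlocks H 0 (-(Matrix.replicateRow Unit w * H)) (Matrix.of fun _ _ => (p : ℤ))
    have hq' : q = (p : ℤ) * (v ⬝ᵥ v) - w ⬝ᵥ H *ᵥ w := by
      have h1 : R = (p : ℤ) • 1 - c * H * cᵀ := by rw [hcHc, hN, sub_sub_cancel]
      rw [hq, h1, Matrix.sub_mulVec, dotProduct_sub, Matrix.smul_mulVec, Matrix.one_mulVec,
        dotProduct_smul, smul_eq_mul, ← Matrix.mulVec_mulVec, ← Matrix.mulVec_mulVec,
        Matrix.dotProduct_mulVec v c, ← Matrix.mulVec_transpose c v, ← hw]
    have hLM : Lm * gramOn B Finset.univ = Matrix.fromBlocks ((p : ℤ) • 1)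
        (H * Matrix.replicateCol Unit w) 0 (Matrix.of fun _ _ => q) := by
      rw [hgram]
      simp only [Lm, Matrix.fromBlocks_multiply, Matrix.zero_mul, add_zero, hHG]
      congr 1
      · rw [Matrix.neg_mul, Matrix.mul_assoc, hHG, Matrix.mul_smul, Matrix.mul_one]
        ext a b
        simp [Matrix.mul_apply]
      · ext a b
        rw [hq', Matrix.neg_mul, Matrix.mul_assoc]
        simp [Matrix.mul_apply, dotProduct, Matrix.mulVec, Finset.mul_sum]
        ring_nf
    have h1 := congrArg Matrix.det hLM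
    rw [Matrix.det_mul, Matrix.det_fromBlocks_zero₁₂, Matrix.det_fromBlocks_zero₂₁, Matrix.det_smul,
      Matrix.det_one, mul_one, Matrix.det_unique (n := Unit), Matrix.det_unique (n := Unit), Fintype.card_fin, ← hprod] at h1
    have hH0 : H.det ≠ 0 := left_ne_zero_of_mul (hprod.trans_ne (pow_ne_zero _ hP.ne'))
    rw [Matrix.of_apply, Matrix.of_apply] at h1
    exact mul_left_cancel₀ hH0 (by linear_combination h1)
  -- the discriminant is at most `p`
  have hGle : |Gm.det| ≤ (p : ℤ) := by
    rcases Nat.eq_zero_or_pos r with hr | hr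
    · subst hr
      rw [Matrix.det_isEmpty, abs_one]
      exact hP
    obtain ⟨i₀⟩ : Nonempty ι := by
      by_contra he
      rw [not_nonempty_iff] at he
      exact hv (by simp [hq, dotProduct])
    have hfact := Fact.mk hp
    obtain ⟨t, ht⟩ := ((ZMod.intCast_surjective (n := p)) ((R i₀ i₀ : ZMod p)⁻¹))
    set u : ι → ℤ := fun i => -(R i i₀ * t)
    set z : ι → ℤ := fun j => R i₀ j
    obtain ⟨A, hA⟩ : ∃ A : Matrix ι ι ℤ, N = (p : ℤ) • A + Matrix.vecMulVec u z := by
      have hd : ∀ i j, (p : ℤ) ∣ N i j - u i * z j := by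
        intro i j
        rw [← ZMod.intCast_zmod_eq_zero_iff_dvd]
        have h1 := (ZMod.intCast_zmod_eq_zero_iff_dvd _ _).2 (hmin i j i₀ i₀)
        have h0 : (R i₀ i₀ : ZMod p) ≠ 0 := fun e => hdiag i₀ ((ZMod.intCast_zmod_eq_zero_iff_dvd _ _).1 e)
        push_cast at h1
        simp only [u, z, hN, Matrix.sub_apply, Matrix.smul_apply, smul_eq_mul]
        push_cast
        rw [ht, ZMod.natCast_self]
        field_simp
        linear_combination -h1
      choose A hA using hd
      exact ⟨Matrix.of A, by ext i j; simp [Matrix.vecMulVec]; linarith [hA i j]⟩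
    have hH' : H = (p : ℤ) • (S * A * Sᵀ) + Matrix.vecMulVec (S *ᵥ u) (S *ᵥ z) := by
      rw [hH, hA, Matrix.mul_add, Matrix.add_mul, Matrix.mul_smul, Matrix.smul_mul,
        Matrix.mul_vecMulVec, Matrix.vecMulVec_mul, Matrix.vecMul_transpose]
    obtain ⟨s, hs⟩ := pow_dvd_det (p : ℤ) (S * A * Sᵀ) (S *ᵥ u) (S *ᵥ z)
    rw [← hH', Fintype.card_fin] at hs
    have h2 : s * Gm.det = p := by
      refine mul_left_cancel₀ (pow_ne_zero (r - 1) hP.ne') ?_
      rw [← mul_assoc, ← hs, hprod, ← pow_succ, Nat.sub_add_cancel hr]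
    exact Int.le_of_dvd hP ((abs_dvd _ _).2 (Dvd.intro_left s h2))
  have hdMq : dM ≤ q := by
    refine le_of_mul_le_mul_left ?_ hP
    rw [hdM]
    exact mul_le_mul_of_nonneg_right ((le_abs_self _).trans hGle) hq0
  rw [htr]
  refine mul_le_mul_of_nonneg_left ?_ hP.le
  push_cast at hlow
  linarith

end Form

end CfsgLib.Blocks.DefectBound
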