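import Cfsg.Agent.Lib.Blocks.DefectBound.DefectOne
import Cfsg.Agent.Lib.Blocks.QuotientBlocks
import Cfsg.Agent.Lib.Blocks.Quotient
import Cfsg.Agent.Lib.Blocks.Star.Compose
import Cfsg.Agent.Lib.Char.Brauer

/-!
# Blocks of a quotient by a central `p`-subgroup

The members of a block `b` of `C` trivial on a central subgroup `Z` of order `p ^ a` form a block of
`C ⧸ Z` with the same rank, with defect at most `a` less, and with the same form.
-/

set_option autoImplicit false

namespace CfsgLib.Blocks.DefectBound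

open Cfsg CfsgLib.Char CfsgLib.CharAction CfsgLib.CycloTrace CfsgLib.Blocks.SubForm
open scoped ComplexConjugate Classical

variable {C : Type*} [Group C] [Fintype C] {p : ℕ} [Fact p.Prime]

/-- The `p'`-part of an element. -/
noncomputable def regPt (p : ℕ) [Fact p.Prime] (g : C) : C := (Star.pPt p g)⁻¹ * g

theorem regPt_mul {u v : C} (hu : ∃ k : ℕ, orderOf u = p ^ k) (hv : ¬ p ∣ orderOf v)
    (hc : Commute u v) : regPt p (u * v) = v := by
  rw [regPt, Star.pPt_mul hu hv hc, inv_mul_cancel_left]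

theorem exists_regPt_eq (g : C) : ∃ u : C, (∃ k : ℕ, orderOf u = p ^ k) ∧
    ¬ p ∣ orderOf (regPt p g) ∧ Commute u (regPt p g) ∧ g = u * regPt p g := by
  obtain ⟨u, s, hu, hs, hc, rfl⟩ := Star.exists_decomp (p := p) g
  exact ⟨u, hu, by rwa [regPt_mul hu hs hc], by rwa [regPt_mul hu hs hc],
    by rw [regPt_mul hu hs hc]⟩

theorem regPt_of_regular {g : C} (hg : ¬ p ∣ orderOf g) : regPt p g = g := by
  have := regPt_mul (p := p) (u := (1 : C)) ⟨0, by simp⟩ hg (Commute.one_left g)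
  rwa [one_mul] at this

theorem regPt_conj (g x : C) : regPt p (x * g * x⁻¹) = x * regPt p g * x⁻¹ := by
  obtain ⟨u, ⟨k, hk⟩, hv, hc, hg⟩ := exists_regPt_eq (p := p) g
  have e : x * g * x⁻¹ = (x * u * x⁻¹) * (x * regPt p g * x⁻¹) := by
    conv_lhs => rw [hg]
    group
  rw [e, regPt_mul (u := x * u * x⁻¹)]
  · exact ⟨k, by rw [show x * u * x⁻¹ = MulAut.conj x u from rfl, MulEquiv.orderOf_eq, hk]⟩
  · rwa [show x * regPt p g * x⁻¹ = MulAut.conj x (regPt p g) from rfl, MulEquiv.orderOf_eq]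
  · exact hc.map (MulAut.conj x).toMonoidHom

/-- `g ↦ η` at the `p'`-part of `g` is a generalized character. -/
theorem isGen_regPt (η : IrrCharacter C) :
    IsGeneralizedCharacter C (fun g => (η : C → ℂ) (regPt p g)) := by
  refine CfsgLib.Brauer.isGeneralizedCharacter_of_elementary (fun g x => ?_) fun E q hq hE => ?_
  · show (η : C → ℂ) (regPt p (x * g * x⁻¹)) = _
    rw [regPt_conj]
    exact IsIrr.isClassFunction η.2 _ _
  have hnil := CfsgLib.Brauer.isNilpotent_of_isElementary hq hE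
  have hp : p.Prime := Fact.out
  let P : Sylow p E := default
  have : (P : Subgroup E).Normal := Sylow.normal_of_normalizerCondition
    (Group.normalizerCondition_of_isNilpotent (G := E)) P
  obtain ⟨Q, hQ⟩ := Subgroup.exists_right_complement'_of_coprime
    (N := (P : Subgroup E)) P.card_coprime_index
  obtain ⟨a, ha⟩ := IsPGroup.iff_card.mp P.isPGroup'
  have hcardQ : Nat.card Q = (P : Subgroup E).index := by
    have h1 := hQ.card_mul
    rw [← (P : Subgroup E).card_mul_index] at h1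
    exact Nat.eq_of_mul_eq_mul_left Nat.card_pos h1
  have hQreg : ∀ y ∈ Q, ¬ p ∣ orderOf y := fun y hy hd =>
    P.not_dvd_index (hcardQ ▸ hd.trans (Subgroup.orderOf_dvd_natCard _ hy))
  have hcomm : ∀ (x : (P : Subgroup E)) (y : Q), Commute (x : E) (y : E) := by
    intro x y
    refine CfsgLib.OddLocal.commute_of_coprime_orderOf hnil ?_
    have h1 : orderOf (x : E) ∣ p ^ a := ha ▸ Subgroup.orderOf_dvd_natCard _ x.2
    exact Nat.Coprime.coprime_dvd_left h1
      (Nat.Coprime.pow_left _ ((Nat.Prime.coprime_iff_not_dvd hp).mpr (hQreg y y.2)))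
  let ψ : ↥(P : Subgroup E) × ↥Q →* E :=
    MonoidHom.noncommCoprod (P : Subgroup E).subtype Q.subtype fun x y => hcomm x y
  have hψ : Function.Bijective ψ := hQ
  let π : E →* Q :=
    (MonoidHom.snd ↥(P : Subgroup E) ↥Q).comp (MulEquiv.ofBijective ψ hψ).symm.toMonoidHom
  have hval : ∀ e : E, regPt p (e : C) = ((π e : E) : C) := by
    intro e
    obtain ⟨⟨x, y⟩, rfl⟩ := hψ.2 e
    have hπ : π (ψ (x, y)) = y := by
      show ((MulEquiv.ofBijective ψ hψ).symm ((MulEquiv.ofBijective ψ hψ) (x, y))).2 = y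
      rw [MulEquiv.symm_apply_apply]
    rw [hπ]
    show regPt p (((x : E) : C) * ((y : E) : C)) = _
    refine regPt_mul ?_ ?_ ((hcomm x y).map E.subtype)
    · obtain ⟨k, hk⟩ := IsPGroup.iff_orderOf.1 P.isPGroup' x
      exact ⟨k, by rw [Subgroup.orderOf_coe, Subgroup.orderOf_coe, hk]⟩
    · rw [Subgroup.orderOf_coe]; exact hQreg y y.2
  have h := IsGen.comp π (IsGen.restrict Q (IsGen.restrict E (IsGen.of_irr η.2)))
  convert h using 1
  funext e
  exact congrArg (η : C → ℂ) (hval e)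

variable (Z : Subgroup C) [Z.Normal]

/-- The block of the quotient below `b`. -/
def quotBlock (b : Set (IrrCharacter C)) : Set (IrrCharacter (C ⧸ Z)) := {ξ | inflate Z ξ ∈ b}

variable {M : Ideal AlgInt} [M.IsPrime] (hM : IsPModular p M) {b : Set (IrrCharacter C)}
  (hb : IsPBlock M b) (hZc : Z ≤ Subgroup.center C) {a : ℕ} (hZ : Nat.card Z = p ^ a)
include hM hb hZc hZ

omit hM hb hZ [M.IsPrime] [Fintype C] in
theorem index_centralizer_eq_one : (Subgroup.centralizer (Z : Set C)).index = p ^ 0 := by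
  rw [pow_zero, Subgroup.index_eq_one, Subgroup.eq_top_iff']
  exact fun g => Subgroup.mem_centralizer_iff.2 fun z hz => (Subgroup.mem_center_iff.1 (hZc hz) g).symm

omit hM hb hZc [M.IsPrime] [Fintype C] in
theorem isPGroup_Z : IsPGroup p Z := IsPGroup.of_card hZ

theorem isPBlock_quotBlock [Fintype (C ⧸ Z)] : IsPBlock M (quotBlock Z b) := by
  obtain ⟨ξ₀, hξ₀⟩ := exists_inflate_mem hM Z (isPGroup_Z Z hZ) (index_centralizer_eq_one Z hZc) hb
  have h : quotBlock Z b = blockOf M (ξ₀ : C ⧸ Z → ℂ) := by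
    ext ξ
    show inflate Z ξ ∈ b ↔ ξ ∈ blockOf M (ξ₀ : C ⧸ Z → ℂ)
    rw [IsPBlock.eq_blockOf hb hξ₀, mem_blockOf, mem_blockOf]
    exact ⟨fun h => sameBlock_of_inflate_of_pGroup hM Z (isPGroup_Z Z hZ)
      (index_centralizer_eq_one Z hZc) h, fun h => sameBlock_inflate Z h⟩
  rw [h]
  exact isPBlock_blockOf ξ₀

/-- On regular elements the members of `b` are combinations of inflated ones. -/
theorem exists_combination [Fintype (C ⧸ Z)] {η : IrrCharacter C} (hη : η ∈ b) :
    ∃ a : IrrCharacter (C ⧸ Z) → ℤ, ∀ w : C, ¬ p ∣ orderOf w →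
      (η : C → ℂ) w = ∑ ξ ∈ (Set.toFinite (quotBlock Z b)).toFinset,
        (a ξ : ℂ) * (ξ : C ⧸ Z → ℂ) (w : C ⧸ Z) := by
  set F : C → ℂ := fun g => (η : C → ℂ) (regPt p g) with hF
  have hgen : IsGeneralizedCharacter C F := isGen_regPt η
  have hcoef : ∀ ξ : IrrCharacter C, ∃ m : ℤ, classInner F (ξ : C → ℂ) = m := fun ξ =>
    IsGen.exists_classInner_eq_intCast hgen (IsGen.of_irr ξ.2)
  choose m hm using hcoef
  refine ⟨fun ξ => m (inflate Z ξ), fun w hw => ?_⟩
  -- constituents are trivial on `Z`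
  have hinv : ∀ z ∈ Z, ∀ g, F (z * g) = F g := by
    intro z hz g
    obtain ⟨u, hu, hv, hc, hg⟩ := exists_regPt_eq (p := p) g
    show (η : C → ℂ) (regPt p (z * g)) = (η : C → ℂ) (regPt p g)
    refine congrArg _ ?_
    conv_lhs => rw [hg, ← mul_assoc]
    have hzc : ∀ x, Commute z x := fun x => (Subgroup.mem_center_iff.1 (hZc hz) x).symm
    refine regPt_mul ?_ hv ((hzc _).mul_left hc)
    obtain ⟨k, hk⟩ := hu
    obtain ⟨j, hj⟩ := IsPGroup.iff_orderOf.1 (isPGroup_Z Z hZ) ⟨z, hz⟩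
    rw [Subgroup.orderOf_mk] at hj
    have h1 : orderOf (z * u) ∣ p ^ (j + k) := (hzc u).orderOf_mul_dvd_mul_orderOf.trans
      (by rw [hj, hk, pow_add])
    obtain ⟨i, -, hi⟩ := (Nat.dvd_prime_pow hM.1).1 h1
    exact ⟨i, hi⟩
  have hzero : ∀ ξ : IrrCharacter C, (¬ ∀ z ∈ Z, (ξ : C → ℂ) z = (ξ : C → ℂ) 1) →
      classInner F (ξ : C → ℂ) = 0 := by
    intro ξ hξ
    push Not at hξ
    obtain ⟨z, hz, hne⟩ := hξ
    have h1 : ∀ g, (ξ : C → ℂ) (z * g) =
        (ξ : C → ℂ) z / (ξ : C → ℂ) 1 * (ξ : C → ℂ) g := fun g => by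
      rw [div_mul_eq_mul_div, eq_div_iff (IsIrr.apply_one_ne_zero ξ.2)]
      exact apply_central_mul ξ (fun x => Subgroup.mem_center_iff.1 (hZc hz) x) g
    have h2 : classInner F (ξ : C → ℂ) =
        conj ((ξ : C → ℂ) z / (ξ : C → ℂ) 1) * classInner F (ξ : C → ℂ) := by
      conv_lhs => rw [classInner, ← Equiv.sum_comp (Equiv.mulLeft z)]
      rw [classInner, Finset.mul_sum, Finset.mul_sum, Finset.mul_sum]
      refine Finset.sum_congr rfl fun g _ => ?_
      simp only [Equiv.coe_mulLeft, hinv z hz, h1, map_mul]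
      ring
    by_contra h0
    have h3 : conj ((ξ : C → ℂ) z / (ξ : C → ℂ) 1) = 1 :=
      mul_right_cancel₀ h0 (by rw [one_mul]; exact h2.symm)
    have h4 := congrArg conj h3
    rw [Complex.conj_conj, map_one, div_eq_one_iff_eq (IsIrr.apply_one_ne_zero ξ.2)] at h4
    exact hne h4
  -- the block part of `F`
  have hBF : blockPart b F w = (η : C → ℂ) w := by
    rw [Star.blockPart_congr_regular hM hb (φ' := (η : C → ℂ))
      (fun v hv => congrArg (η : C → ℂ) (regPt_of_regular hv)) hw, blockPart_eq,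
      finsum_mem_eq_finite_toFinset_sum _ (Set.toFinite b),
      Finset.sum_eq_single η (fun ξ _ hne => by
        rw [classInner_irr_of_ne (Ne.symm hne), zero_mul])
      (fun h => absurd ((Set.Finite.mem_toFinset _).2 hη) h), classInner_irr_self, one_mul]
  rw [← hBF, blockPart_eq, finsum_mem_eq_finite_toFinset_sum _ (Set.toFinite b)]
  rw [← Finset.sum_subset (s₁ := ((Set.toFinite (quotBlock Z b)).toFinset).image (inflate Z))
    (fun ξ hξ => by
      obtain ⟨ξ', hξ', rfl⟩ := Finset.mem_image.1 hξ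
      exact (Set.Finite.mem_toFinset _).2 ((Set.Finite.mem_toFinset (Set.toFinite (quotBlock Z b))).1 hξ'))
    (fun ξ hξb hξ => by
      rw [hzero ξ fun htriv => hξ ?_, zero_mul]
      obtain ⟨ξ', rfl⟩ := exists_inflate_eq Z ξ htriv
      exact Finset.mem_image.2 ⟨ξ', (Set.Finite.mem_toFinset _).2
        ((Set.Finite.mem_toFinset (Set.toFinite b)).1 hξb), rfl⟩),
    Finset.sum_image fun a _ c _ h => inflate_injective Z h]
  exact Finset.sum_congr rfl fun ξ _ => by rw [hm]; rfl

omit hM hb [M.IsPrime] in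
/-- The regular elements of the quotient are the images of the regular elements. -/
theorem sum_regular_quot [Fintype (C ⧸ Z)] (f : C ⧸ Z → ℂ) :
    ∑ w ∈ Finset.univ.filter (fun w : C => ¬ p ∣ orderOf w), f (w : C ⧸ Z) =
      ∑ q ∈ Finset.univ.filter (fun q : C ⧸ Z => ¬ p ∣ orderOf q), f q := by
  refine Finset.sum_bij (fun w _ => (w : C ⧸ Z)) (fun w hw => ?_) (fun a ha c hc e => ?_)
    (fun q hq => ?_) fun _ _ => rfl
  · simp only [Finset.mem_filter, Finset.mem_univ, true_and] at hw ⊢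
    exact fun hd => hw (hd.trans (orderOf_map_dvd (QuotientGroup.mk' Z) w))
  · simp only [Finset.mem_filter, Finset.mem_univ, true_and] at ha hc
    have hu : a⁻¹ * c ∈ Z := QuotientGroup.eq.1 e
    have := eq_one_of_regular_mul Z (isPGroup_Z Z hZ) (index_centralizer_eq_one Z hZc) hu ha
      (by rwa [mul_inv_cancel_left])
    exact inv_mul_eq_one.1 this
  · simp only [Finset.mem_filter, Finset.mem_univ, true_and] at hq
    obtain ⟨g, rfl⟩ := QuotientGroup.mk_surjective q
    obtain ⟨u, ⟨k, hk⟩, hv, hc, hg⟩ := exists_regPt_eq (p := p) g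
    refine ⟨regPt p g, by simp [hv], ?_⟩
    have hcq : Commute (u : C ⧸ Z) ((regPt p g : C) : C ⧸ Z) := hc.map (QuotientGroup.mk' Z)
    have hdu : orderOf (u : C ⧸ Z) ∣ p ^ k := hk ▸ orderOf_map_dvd (QuotientGroup.mk' Z) u
    obtain ⟨l, -, hl⟩ := (Nat.dvd_prime_pow (Fact.out : p.Prime)).1 hdu
    conv_rhs => rw [hg, QuotientGroup.mk_mul]
    rcases Nat.eq_zero_or_pos l with h0 | h0
    · rw [(orderOf_eq_one_iff.1 (by rw [hl, h0, pow_zero]) : (u : C ⧸ Z) = 1), one_mul]
    exfalso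
    refine hq ?_
    rw [hg, QuotientGroup.mk_mul, hcq.orderOf_mul_eq_mul_orderOf_of_coprime, hl]
    · exact (dvd_pow_self p h0.ne').mul_right _
    · rw [hl]
      exact Nat.Coprime.coprime_dvd_right (orderOf_map_dvd (QuotientGroup.mk' Z) _)
        (((Nat.Prime.coprime_iff_not_dvd (Fact.out : p.Prime)).2 hv).pow_left l)

/-- The ranks agree. -/
theorem blockRank_quotBlock [Fintype (C ⧸ Z)] : blockRank p b = blockRank p (quotBlock Z b) := by
  let T : (C ⧸ Z → ℂ) →ₗ[ℂ] (C → ℂ) :=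
    { toFun := fun f g => if p ∣ orderOf g then 0 else f (g : C ⧸ Z)
      map_add' := fun f f' => by funext g; simp only [Pi.add_apply]; split <;> simp
      map_smul' := fun r f => by funext g; simp only [Pi.smul_apply, smul_eq_mul, RingHom.id_apply]; split <;> simp }
  set S' := Submodule.span ℂ ((fun χ : IrrCharacter (C ⧸ Z) => pRegularPart p (χ : C ⧸ Z → ℂ)) '' quotBlock Z b)
  have hTξ : ∀ ξ : IrrCharacter (C ⧸ Z),
      T (pRegularPart p (ξ : C ⧸ Z → ℂ)) = pRegularPart p (inflate Z ξ : C → ℂ) := by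
    intro ξ
    funext g
    simp only [pRegularPart_eq_regCut, regCut, T, LinearMap.coe_mk, AddHom.coe_mk]
    by_cases hg : p ∣ orderOf g
    · simp [hg]
    · rw [if_neg hg, if_neg hg, if_neg fun hd => hg (hd.trans (orderOf_map_dvd (QuotientGroup.mk' Z) g))]
      rfl
  have hmap : S'.map T = Submodule.span ℂ ((fun χ : IrrCharacter C => pRegularPart p (χ : C → ℂ)) '' b) := by
    refine le_antisymm ?_ (Submodule.span_le.2 ?_)
    · rw [Submodule.map_span, Submodule.span_le]
      rintro _ ⟨_, ⟨ξ, hξ, rfl⟩, rfl⟩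
      exact Submodule.subset_span ⟨inflate Z ξ, hξ, (hTξ ξ).symm⟩
    · rintro _ ⟨η, hη, rfl⟩
      obtain ⟨a, ha⟩ := exists_combination Z hM hb hZc hZ hη
      refine ⟨∑ ξ ∈ (Set.toFinite (quotBlock Z b)).toFinset,
        (a ξ : ℂ) • pRegularPart p (ξ : C ⧸ Z → ℂ), Submodule.sum_mem _ fun ξ hξ =>
          Submodule.smul_mem _ _ (Submodule.subset_span ⟨ξ, (Set.Finite.mem_toFinset _).1 hξ, rfl⟩), ?_⟩
      funext g
      simp only [map_sum, map_smul, hTξ]
      simp only [Finset.sum_apply, Pi.smul_apply, smul_eq_mul, pRegularPart_eq_regCut, regCut]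
      by_cases hg : p ∣ orderOf g
      · simp [hg]
      · simp only [if_neg hg]
        exact (ha g hg).symm
  have hinj : Set.InjOn T S' := by
    intro f hf f' hf' e
    have hsupp : ∀ f ∈ S', ∀ q : C ⧸ Z, p ∣ orderOf q → f q = 0 := by
      intro f hf q hq
      induction hf using Submodule.span_induction with
      | mem f hf => obtain ⟨ξ, -, rfl⟩ := hf; simp [pRegularPart_eq_regCut, regCut, hq]
      | zero => rfl
      | add a c _ _ ha hc => simp [ha, hc]
      | smul r a _ ha => simp [ha]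
    funext q
    by_cases hq : p ∣ orderOf q
    · rw [hsupp f hf q hq, hsupp f' hf' q hq]
    have key : ∑ w ∈ Finset.univ.filter (fun w : C => ¬ p ∣ orderOf w),
        (if (w : C ⧸ Z) = q then f (w : C ⧸ Z) - f' (w : C ⧸ Z) else 0) = f q - f' q := by
      rw [sum_regular_quot Z hZc hZ (fun x => if x = q then f x - f' x else 0),
        Finset.sum_ite_eq' _ q, if_pos (by simp [hq])]
    rw [Finset.sum_eq_zero fun w hw => ?_] at key
    · exact sub_eq_zero.1 key.symm
    · have := congrFun e w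
      simp only [T, LinearMap.coe_mk, AddHom.coe_mk, if_neg (Finset.mem_filter.1 hw).2] at this
      rw [this, sub_self, ite_self]
  show Module.finrank ℂ _ = Module.finrank ℂ S'
  rw [← hmap]
  exact (LinearEquiv.ofBijective ((T.comp S'.subtype).codRestrict (S'.map T)
    (fun x => Submodule.mem_map_of_mem x.2))
    ⟨fun x y h => Subtype.ext (hinj x.2 y.2 (congrArg Subtype.val h)),
      fun ⟨_, f, hf, e⟩ => ⟨⟨f, hf⟩, Subtype.ext e⟩⟩).finrank_eq.symm

omit hM hb hZc [M.IsPrime] in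
theorem factorization_card_quot :
    (Nat.card C).factorization p = (Nat.card (C ⧸ Z)).factorization p + a := by
  have hp : p.Prime := Fact.out
  rw [← Subgroup.index_eq_card, ← Z.index_mul_card, hZ,
    Nat.factorization_mul Subgroup.index_ne_zero_of_finite (pow_ne_zero _ hp.ne_zero),
    Finsupp.add_apply, hp.factorization_pow, Finsupp.single_eq_same]

theorem charDegree_inflate_eq (ξ : IrrCharacter (C ⧸ Z)) :
    charDegree (inflate Z ξ : C → ℂ) = charDegree (ξ : C ⧸ Z → ℂ) := by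
  simp [charDegree, inflate_apply]

theorem blockDefect_quotBlock_le [Fintype (C ⧸ Z)] :
    blockDefect p (quotBlock Z b) ≤ blockDefect p b - a := by
  have hq := isPBlock_quotBlock Z hM hb hZc hZ
  obtain ⟨ξ, hξ, hξe⟩ := exists_minDeg p (IsPBlock.nonempty hq)
  have h1 : minDeg p b ≤ minDeg p (quotBlock Z b) := by
    rw [← hξe, show degVal p (ξ : C ⧸ Z → ℂ) = degVal p (inflate Z ξ : C → ℂ) by
      simp only [degVal, charDegree_inflate_eq Z hM hb hZc hZ]]
    exact minDeg_le hξ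
  rw [blockDefect_eq_sub, blockDefect_eq_sub, factorization_card_quot Z hZ]
  omega

theorem blockDefect_quotBlock_eq [Fintype (C ⧸ Z)] (hd : a ≤ blockDefect p b)
    (hh : ∀ η ∈ b, blockHeight p b (η : C → ℂ) = 0) :
    blockDefect p (quotBlock Z b) = blockDefect p b - a := by
  have hq := isPBlock_quotBlock Z hM hb hZc hZ
  obtain ⟨ξ, hξ, hξe⟩ := exists_minDeg p (IsPBlock.nonempty hq)
  have h1 := degVal_eq_add (p := p) (B := b) (χ := inflate Z ξ) hξ
  rw [hh _ hξ, add_zero] at h1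
  simp only [degVal, charDegree_inflate_eq Z hM hb hZc hZ] at h1 hξe
  rw [blockDefect_eq_sub p (quotBlock Z b), ← hξe, h1, factorization_card_quot Z hZ]
  have h2 := blockDefect_eq_sub p b
  rw [factorization_card_quot Z hZ] at h2
  omega

/-- The form of `b` at a vector is the form of the quotient block at the projected vector. -/
theorem form_quotBlock [Fintype (C ⧸ Z)] [Fintype (IrrCharacter C)] [Fintype (IrrCharacter (C ⧸ Z))]
    (hd : blockDefect p b = blockDefect p (quotBlock Z b) + a) (v : IrrCharacter C → ℤ) :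
    ∃ u : IrrCharacter (C ⧸ Z) → ℤ,
      form (formR p b) v = form (formR p (quotBlock Z b)) u := by
  have hq := isPBlock_quotBlock Z hM hb hZc hZ
  have hchoice : ∀ η : IrrCharacter C, ∃ a : IrrCharacter (C ⧸ Z) → ℤ, η ∈ b →
      ∀ w : C, ¬ p ∣ orderOf w → (η : C → ℂ) w =
        ∑ ξ ∈ (Set.toFinite (quotBlock Z b)).toFinset, (a ξ : ℂ) * (ξ : C ⧸ Z → ℂ) (w : C ⧸ Z) :=
    fun η => if h : η ∈ b then (exists_combination Z hM hb hZc hZ h).imp fun _ ha _ => ha
      else ⟨0, fun h' => absurd h' h⟩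
  choose a ha using hchoice
  obtain ⟨u, hu⟩ : ∃ u : IrrCharacter (C ⧸ Z) → ℤ,
      u = fun ξ => ∑ η ∈ (Set.toFinite b).toFinset, v η * a η ξ := ⟨_, rfl⟩
  refine ⟨u, ?_⟩
  apply Int.cast_injective (α := ℂ)
  rw [form_formR hM hb, form_formR hM hq, hd]
  have hval : ∀ w : C, ¬ p ∣ orderOf w →
      ∑ η ∈ (Set.toFinite b).toFinset, (v η : ℂ) * (η : C → ℂ) w =
        ∑ ξ ∈ (Set.toFinite (quotBlock Z b)).toFinset, (u ξ : ℂ) * (ξ : C ⧸ Z → ℂ) (w : C ⧸ Z) := by
    intro w hw
    rw [Finset.sum_congr rfl fun η hη => by rw [ha η ((Set.Finite.mem_toFinset _).1 hη) w hw]]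
    simp only [hu, Int.cast_sum, Int.cast_mul, Finset.mul_sum, Finset.sum_mul]
    rw [Finset.sum_comm]
    exact Finset.sum_congr rfl fun ξ _ => Finset.sum_congr rfl fun η _ => by ring
  rw [Finset.sum_congr rfl fun w hw => by rw [hval w (Finset.mem_filter.1 hw).2],
    sum_regular_quot Z hZc hZ (fun q => (Complex.normSq (∑ ξ ∈ (Set.toFinite (quotBlock Z b)).toFinset,
      (u ξ : ℂ) * (ξ : C ⧸ Z → ℂ) q) : ℂ)),
    ← Z.index_mul_card, hZ, Subgroup.index_eq_card, pow_add]
  push_cast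
  have hp0 : (p : ℂ) ≠ 0 := Nat.cast_ne_zero.2 hM.1.ne_zero
  field_simp

end CfsgLib.Blocks.DefectBound
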